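import Groth.Agent.RedSub.H637.BruhatAbs

/-!
# The BN-pair relations

For the data `BData` of the abstract Bruhat decomposition: the subgroup `Bp = T U⁺`, the double cosets
`Cell l = Bp n_l Bp`, the relation `n_a Bp n_l ⊆ Bp n_l Bp ∪ Bp n_a n_l Bp` for simple `a`, the parabolic
subgroups `Pa = Bp ∪ Bp n_a Bp`, and the disjointness of the cells.
-/

set_option autoImplicit false
universe u v

namespace K210.BNPair

open Groth.Agent.RedSub.H637.BruhatAbs Groth.Agent.RedSub.H637.BruhatAbs.BData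

variable {Γ : Type u} [Group Γ] {idx : Type v} (D : BData Γ idx)

section

variable [Fintype idx]

/-- the Borel subgroup `T U⁺` -/
def Bp : Subgroup Γ where
  carrier := {g | ∃ t ∈ D.T, ∃ u ∈ D.Up, g = t * u}
  mul_mem' := by
    rintro _ _ ⟨t, ht, u, hu, rfl⟩ ⟨t', ht', u', hu', rfl⟩
    exact ⟨t * t', D.T.mul_mem ht ht', (t'⁻¹ * u * t'⁻¹⁻¹) * u',
      D.Up.mul_mem (D.T_Up _ (D.T.inv_mem ht') u hu) hu', by group⟩
  one_mem' := ⟨1, D.T.one_mem, 1, D.Up.one_mem, by group⟩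
  inv_mem' := by
    rintro _ ⟨t, ht, u, hu, rfl⟩
    exact ⟨t⁻¹, D.T.inv_mem ht, t * u⁻¹ * t⁻¹, D.T_Up t ht _ (D.Up.inv_mem hu), by group⟩

lemma mem_Bp {g : Γ} : g ∈ Bp D ↔ ∃ t ∈ D.T, ∃ u ∈ D.Up, g = t * u := Iff.rfl

lemma T_le_Bp : D.T ≤ Bp D := fun t ht => ⟨t, ht, 1, D.Up.one_mem, by group⟩

lemma Up_le_Bp : D.Up ≤ Bp D := fun u hu => ⟨1, D.T.one_mem, u, hu, by group⟩

lemma U_le_Bp {a : idx} (ha : a ∉ D.neg) : D.U a ≤ Bp D :=
  (D.U_le_Up a ha).trans (Up_le_Bp D)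

/-- the double coset of a word -/
def Cell (l : List idx) : Set Γ := {g | ∃ x ∈ Bp D, ∃ y ∈ Bp D, g = x * D.nl l * y}

lemma mem_Cell {l : List idx} {g : Γ} :
    g ∈ Cell D l ↔ ∃ x ∈ Bp D, ∃ y ∈ Bp D, g = x * D.nl l * y := Iff.rfl

lemma nl_mem_Cell (l : List idx) : D.nl l ∈ Cell D l :=
  ⟨1, (Bp D).one_mem, 1, (Bp D).one_mem, by group⟩

variable {D}

lemma mul_mem_Cell {l : List idx} {x g : Γ} (hx : x ∈ Bp D) (hg : g ∈ Cell D l) :
    x * g ∈ Cell D l := by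
  obtain ⟨y, hy, z, hz, rfl⟩ := hg
  exact ⟨x * y, (Bp D).mul_mem hx hy, z, hz, by group⟩

lemma Cell_mul_mem {l : List idx} {x g : Γ} (hx : x ∈ Bp D) (hg : g ∈ Cell D l) :
    g * x ∈ Cell D l := by
  obtain ⟨y, hy, z, hz, rfl⟩ := hg
  exact ⟨y, hy, z * x, (Bp D).mul_mem hz hx, by group⟩

lemma mul_mem_Cell_iff {l : List idx} {x g : Γ} (hx : x ∈ Bp D) :
    x * g ∈ Cell D l ↔ g ∈ Cell D l :=
  ⟨fun h => by
    have := mul_mem_Cell ((Bp D).inv_mem hx) h
    rwa [inv_mul_cancel_left] at this, mul_mem_Cell hx⟩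

lemma Cell_mul_mem_iff {l : List idx} {x g : Γ} (hx : x ∈ Bp D) :
    g * x ∈ Cell D l ↔ g ∈ Cell D l :=
  ⟨fun h => by
    have := Cell_mul_mem ((Bp D).inv_mem hx) h
    rwa [mul_inv_cancel_right] at this, Cell_mul_mem hx⟩

lemma Cell_nil : Cell D [] = (Bp D : Set Γ) := by
  ext g
  constructor
  · rintro ⟨x, hx, y, hy, rfl⟩
    rw [BData.nl_nil, mul_one]
    exact (Bp D).mul_mem hx hy
  · intro hg
    exact ⟨g, hg, 1, (Bp D).one_mem, by rw [BData.nl_nil]; group⟩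

/-- two cells which meet are equal -/
lemma Cell_eq_of_mem {l l' : List idx} {g : Γ} (h : g ∈ Cell D l) (h' : g ∈ Cell D l') :
    Cell D l = Cell D l' := by
  obtain ⟨x, hx, y, hy, rfl⟩ := h
  rw [Cell_mul_mem_iff hy, mul_mem_Cell_iff hx] at h'
  obtain ⟨x', hx', y', hy', h⟩ := h'
  ext g
  constructor
  · rintro ⟨z, hz, w, hw, rfl⟩
    rw [h]
    exact ⟨z * x', (Bp D).mul_mem hz hx', y' * w, (Bp D).mul_mem hy' hw, by group⟩
  · rintro ⟨z, hz, w, hw, rfl⟩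
    refine ⟨z * x'⁻¹, (Bp D).mul_mem hz ((Bp D).inv_mem hx'), y'⁻¹ * w,
      (Bp D).mul_mem ((Bp D).inv_mem hy') hw, ?_⟩
    rw [h]
    group

omit [Fintype idx] in
/-- the representatives conjugate the torus into itself -/
lemma nl_T (l : List idx) {t : Γ} (ht : t ∈ D.T) : D.nl l * t * (D.nl l)⁻¹ ∈ D.T := by
  induction l with
  | nil => simpa using ht
  | cons a l ih =>
    have h := D.T_n a _ ih
    have h2 : D.nl (a :: l) * t * (D.nl (a :: l))⁻¹ =
        D.n a * (D.nl l * t * (D.nl l)⁻¹) * (D.n a)⁻¹ := by rw [BData.nl_cons]; group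
    rwa [h2]

end

/-- The properties of a root system which are not in `BData`. -/
structure Ax : Prop where
  ss : ∀ a c, D.s a (D.s a c) = c
  oo : ∀ a, D.opp (D.opp a) = a

section rel

variable {D} [Fintype idx] (A : Ax D)
include A

omit [Fintype idx] in
lemma s_pos {a : idx} (ha : a ∈ D.simple) {c : idx} (hc : c ∉ D.neg) (hca : c ≠ a) :
    D.s a c ∉ D.neg := by
  intro h
  by_cases h1 : D.s a c = D.opp a
  · apply hca
    have h2 := D.s_inv_opp_self a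
    rw [A.oo, Equiv.Perm.inv_eq_iff_eq] at h2
    exact (D.s a).injective (h1.trans h2)
  · have h2 := D.s_neg a ha _ h h1
    rw [A.ss] at h2
    exact hc h2

omit [Fintype idx] in
lemma s_inv (a : idx) : (D.s a)⁻¹ = D.s a := by
  rw [inv_eq_iff_mul_eq_one]
  exact Equiv.ext fun c => A.ss a c

omit [Fintype idx] in
lemma s_self (a : idx) : D.s a a = D.opp a := by
  have := D.s_inv_self a
  rwa [s_inv A] at this

/-- splitting of a positive element at a simple root -/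
lemma exists_split {a : idx} (ha : a ∈ D.simple) {u : Γ} (hu : u ∈ D.Up) :
    ∃ u', D.n a * u' * (D.n a)⁻¹ ∈ D.Up ∧ ∃ x ∈ D.U a, u = u' * x := by
  obtain ⟨L, hL, hL'⟩ := BData.exists_list {c | c ∉ D.neg ∧ c ≠ a}
  have hLn : (L ++ [a]).Nodup := by
    rw [List.nodup_append]
    refine ⟨hL, by simp, ?_⟩
    intro c hc c' hc' hcc'
    rw [List.mem_singleton] at hc'
    exact ((hL' c).1 hc).2 (by rw [hcc', hc'])
  have hLm : ∀ c, c ∈ L ++ [a] ↔ c ∉ D.neg := by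
    intro c
    rw [List.mem_append, hL', List.mem_singleton]
    constructor
    · rintro (h | rfl)
      · exact h.1
      · exact D.simple_pos c ha
    · intro h
      by_cases hc : c = a
      · exact Or.inr hc
      · exact Or.inl ⟨h, hc⟩
  obtain ⟨u', hu', y, ⟨x, hx, z, hz, rfl⟩, rfl⟩ := mem_PL_append.1 (D.Up_ord _ hLn hLm u hu)
  refine ⟨u', PL_conj (fun c hc x hx => ?_) hu', x, hx, by rw [mem_PL_nil.1 hz, mul_one]⟩
  have hc' := (hL' c).1 hc
  exact D.U_le_Up _ (s_pos A ha hc'.1 hc'.2) (D.n_U a c x hx)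

omit [Fintype idx] in
/-- the rank one relation for the opposite root -/
lemma rank1' {a : idx} (ha : a ∈ D.simple) {x : Γ} (hx : x ∈ D.U (D.opp a)) (hx1 : x ≠ 1) :
    ∃ v ∈ D.U a, ∃ t ∈ D.T, ∃ v' ∈ D.U a, x = v * D.n a * t * v' := by
  have h1 : D.n a * x * (D.n a)⁻¹ ∈ D.U a := by
    have := D.n_U a _ x hx
    rwa [D.s_opp_self] at this
  have h2 : D.n a * x * (D.n a)⁻¹ ≠ 1 := by
    intro h
    apply hx1
    have h3 : x = (D.n a)⁻¹ * (D.n a * x * (D.n a)⁻¹) * D.n a := by group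
    rw [h3, h]; group
  obtain ⟨w, hw, t, ht, w', hw', h⟩ := D.rank1 a ha _ h1 h2
  have h3 : ∀ w ∈ D.U (D.opp a), (D.n a)⁻¹ * w * D.n a ∈ D.U a := by
    intro w hw
    have := D.n_U' a _ w hw
    rwa [D.s_inv_opp_self, A.oo] at this
  refine ⟨_, h3 w hw, (D.n a)⁻¹ * t * D.n a, D.T_n' a t ht, _, h3 w' hw', ?_⟩
  have h4 : x = (D.n a)⁻¹ * (D.n a * x * (D.n a)⁻¹) * D.n a := by group
  rw [h4, h]
  group

omit A in
lemma nl_U_pos {l : List idx} {c : idx} (hc : (D.wl l)⁻¹ c ∉ D.neg) {x : Γ} (hx : x ∈ D.U c) :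
    (D.nl l)⁻¹ * x * D.nl l ∈ Bp D :=
  U_le_Bp D hc (D.nl_inv_U l c x hx)

/-- `n_a B n_l ⊆ B n_a n_l B` if `w_l⁻¹ a` is positive -/
lemma n_mul_Cell_pos {a : idx} (ha : a ∈ D.simple) {l : List idx} (hl : (D.wl l)⁻¹ a ∉ D.neg)
    {g : Γ} (hg : g ∈ Cell D l) : D.n a * g ∈ Cell D (a :: l) := by
  obtain ⟨_, ⟨t, ht, u, hu, rfl⟩, y, hy, rfl⟩ := hg
  obtain ⟨u', hu', x, hx, rfl⟩ := exists_split A ha hu
  refine ⟨(D.n a * t * (D.n a)⁻¹) * (D.n a * u' * (D.n a)⁻¹),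
    (Bp D).mul_mem (T_le_Bp D (D.T_n a t ht)) (Up_le_Bp D hu'),
    ((D.nl l)⁻¹ * x * D.nl l) * y, (Bp D).mul_mem (nl_U_pos hl hx) hy, ?_⟩
  rw [BData.nl_cons]
  group

/-- `n_a B n_l ⊆ B n_l B ∪ B n_a n_l B` -/
lemma n_mul_Cell {a : idx} (ha : a ∈ D.simple) {l : List idx} {g : Γ} (hg : g ∈ Cell D l) :
    D.n a * g ∈ Cell D l ∪ Cell D (a :: l) := by
  by_cases hl : (D.wl l)⁻¹ a ∈ D.neg
  · obtain ⟨_, ⟨t, ht, u, hu, rfl⟩, y, hy, rfl⟩ := hg
    obtain ⟨u', hu', x, hx, rfl⟩ := exists_split A ha hu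
    have hb : (D.n a * t * (D.n a)⁻¹) * (D.n a * u' * (D.n a)⁻¹) ∈ Bp D :=
      (Bp D).mul_mem (T_le_Bp D (D.T_n a t ht)) (Up_le_Bp D hu')
    by_cases hx1 : x = 1
    · subst hx1
      refine Or.inr ⟨_, hb, y, hy, ?_⟩
      rw [BData.nl_cons]
      group
    · left
      have h1 : D.n a * x * (D.n a)⁻¹ ∈ D.U (D.opp a) := by
        have := D.n_U a _ x hx
        rwa [s_self A] at this
      have h2 : D.n a * x * (D.n a)⁻¹ ≠ 1 := by
        intro h
        apply hx1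
        have h3 : x = (D.n a)⁻¹ * (D.n a * x * (D.n a)⁻¹) * D.n a := by group
        rw [h3, h]; group
      obtain ⟨v, hv, t₁, ht₁, v', hv', h⟩ := rank1' A ha h1 h2
      have h3 : D.n a * t₁ * D.n a ∈ D.T := by
        have h11 : D.n a * t₁ * D.n a = (D.n a * t₁ * (D.n a)⁻¹) * (D.n a * D.n a) := by group
        rw [h11]
        exact D.T.mul_mem (D.T_n a t₁ ht₁) (D.n_sq a)
      have h4 : (D.n a)⁻¹ * v' * D.n a ∈ D.U (D.opp a) := by
        have := D.n_U' a _ v' hv'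
        rwa [D.s_inv_self] at this
      have h5 : (D.nl l)⁻¹ * ((D.n a)⁻¹ * v' * D.n a) * D.nl l ∈ Bp D := by
        refine nl_U_pos ?_ h4
        rw [D.wl_inv_opp, D.neg_opp, not_not]
        exact hl
      have h6 : D.n a * x = v * (D.n a * t₁ * D.n a) * ((D.n a)⁻¹ * v' * D.n a) := by
        have h7 : D.n a * x = (D.n a * x * (D.n a)⁻¹) * D.n a := by group
        rw [h7, h]
        group
      have h8 : D.n a * ((t * (u' * x)) * D.nl l * y) =
          (((D.n a * t * (D.n a)⁻¹) * (D.n a * u' * (D.n a)⁻¹)) * (v * (D.n a * t₁ * D.n a))) *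
            D.nl l * (((D.nl l)⁻¹ * ((D.n a)⁻¹ * v' * D.n a) * D.nl l) * y) := by
        have h9 : D.n a * ((t * (u' * x)) * D.nl l * y) =
          (((D.n a * t * (D.n a)⁻¹) * (D.n a * u' * (D.n a)⁻¹)) * (D.n a * x)) *
            D.nl l * y := by group
        rw [h9, h6]
        group
      exact ⟨_, (Bp D).mul_mem hb ((Bp D).mul_mem (U_le_Bp D (D.simple_pos a ha) hv)
        (T_le_Bp D h3)), _, (Bp D).mul_mem h5 hy, h8⟩
  · exact Or.inr (n_mul_Cell_pos A ha hl hg)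

/-- product of a simple cell with a cell -/
lemma Cell_mul_Cell {a : idx} (ha : a ∈ D.simple) {l : List idx} {h g : Γ} (hh : h ∈ Cell D [a])
    (hg : g ∈ Cell D l) : h * g ∈ Cell D l ∪ Cell D (a :: l) := by
  obtain ⟨x, hx, y, hy, rfl⟩ := hh
  have h1 : x * D.nl [a] * y * g = x * (D.n a * (y * g)) := by
    rw [BData.nl_cons, BData.nl_nil]; group
  rw [h1]
  rcases n_mul_Cell A ha (mul_mem_Cell hy hg) with h | h
  · exact Or.inl (mul_mem_Cell hx h)
  · exact Or.inr (mul_mem_Cell hx h)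

omit A in
lemma Cell_two {a : idx} : Cell D [a, a] = (Bp D : Set Γ) := by
  have h : D.nl [a, a] ∈ Bp D := by
    rw [BData.nl_cons, BData.nl_cons, BData.nl_nil, mul_one]
    exact T_le_Bp D (D.n_sq a)
  rw [← Cell_nil]
  refine Cell_eq_of_mem (nl_mem_Cell D _) ?_
  rw [Cell_nil]
  exact h

omit A in
lemma inv_mem_Cell_single {a : idx} {g : Γ} (hg : g ∈ Cell D [a]) : g⁻¹ ∈ Cell D [a] := by
  obtain ⟨x, hx, y, hy, rfl⟩ := hg
  have h1 : (x * D.nl [a] * y)⁻¹ = y⁻¹ * D.nl [a] * ((D.n a * D.n a)⁻¹ * x⁻¹) := by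
    rw [BData.nl_cons, BData.nl_nil]; group
  rw [h1]
  exact ⟨_, (Bp D).inv_mem hy, _,
    (Bp D).mul_mem ((Bp D).inv_mem (T_le_Bp D (D.n_sq a))) ((Bp D).inv_mem hx), rfl⟩

/-- The minimal parabolic subgroup of a simple root. -/
def Pa (a : idx) (ha : a ∈ D.simple) : Subgroup Γ where
  carrier := Bp D ∪ Cell D [a]
  one_mem' := Or.inl (Bp D).one_mem
  mul_mem' := by
    rintro g h (hg | hg) (hh | hh)
    · exact Or.inl ((Bp D).mul_mem hg hh)
    · exact Or.inr (mul_mem_Cell hg hh)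
    · exact Or.inr (Cell_mul_mem hh hg)
    · rcases Cell_mul_Cell A ha hg hh with h1 | h1
      · exact Or.inr h1
      · left
        rwa [Cell_two] at h1
  inv_mem' := by
    rintro g (hg | hg)
    · exact Or.inl ((Bp D).inv_mem hg)
    · exact Or.inr (inv_mem_Cell_single hg)

lemma mem_Pa {a : idx} {ha : a ∈ D.simple} {g : Γ} : g ∈ Pa A a ha ↔ g ∈ Bp D ∨ g ∈ Cell D [a] :=
  Iff.rfl

lemma coe_Pa {a : idx} {ha : a ∈ D.simple} : (Pa A a ha : Set Γ) = (Bp D : Set Γ) ∪ Cell D [a] :=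
  rfl

lemma Bp_le_Pa {a : idx} {ha : a ∈ D.simple} : Bp D ≤ Pa A a ha := fun _ h => Or.inl h

lemma n_mem_Pa {a : idx} {ha : a ∈ D.simple} : D.n a ∈ Pa A a ha := by
  right
  have := nl_mem_Cell D [a]
  rwa [BData.nl_cons, BData.nl_nil, mul_one] at this

/-- `P_a` moves cells -/
lemma Pa_mul_Cell {a : idx} (ha : a ∈ D.simple) {l : List idx} {h g : Γ} (hh : h ∈ Pa A a ha)
    (hg : g ∈ Cell D l) : h * g ∈ Cell D l ∪ Cell D (a :: l) := by
  rcases hh with hh | hh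
  · exact Or.inl (mul_mem_Cell hh hg)
  · exact Cell_mul_Cell A ha hh hg

end rel

/-- The properties of words which are not in `BData`. -/
structure WAx [Fintype idx] : Prop where
  wl_one : ∀ l, D.nl l ∈ Bp D → D.wl l = 1
  nl_eq : ∀ l l', D.wl l = D.wl l' → ∃ t ∈ D.T, D.nl l' = D.nl l * t
  simple_word : ∀ l, ∃ l', (∀ a ∈ l', a ∈ D.simple) ∧ D.wl l' = D.wl l

section uniq

variable {D} [Fintype idx] (A : Ax D) (W : WAx D)

include W in
/-- the cell only depends on the Weyl group element -/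
lemma Cell_congr {l l' : List idx} (h : D.wl l = D.wl l') : Cell D l = Cell D l' := by
  obtain ⟨t, ht, h1⟩ := W.nl_eq l l' h
  refine Cell_eq_of_mem (g := D.nl l') ?_ (nl_mem_Cell D l')
  rw [h1]
  exact Cell_mul_mem (T_le_Bp D ht) (nl_mem_Cell D l)

include A W in
/-- uniqueness for words of bounded length, one of them simple and the second not shorter -/
lemma uniq_aux (l : List idx) : ∀ l' : List idx, (∀ a ∈ l, a ∈ D.simple) →
    (∀ l₁ : List idx, (∀ a ∈ l₁, a ∈ D.simple) → D.wl l₁ = D.wl l' → l.length ≤ l₁.length) →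
    Cell D l = Cell D l' → D.wl l = D.wl l' := by
  induction l with
  | nil =>
    intro l' _ _ h
    have h1 : D.nl l' ∈ Bp D := by
      have := nl_mem_Cell D l'
      rwa [← h, Cell_nil] at this
    rw [W.wl_one l' h1, BData.wl_nil]
  | cons a l ih =>
    intro l' hl hmin h
    have ha : a ∈ D.simple := hl a (by simp)
    have hl2 : ∀ a ∈ l, a ∈ D.simple := fun c hc => hl c (by simp [hc])
    -- `n_l ∈ n_a⁻¹ Cell l'`
    have h1 : D.nl l = (D.n a * D.n a)⁻¹ * (D.n a * D.nl (a :: l)) := by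
      rw [BData.nl_cons]; group
    have h2 : D.nl (a :: l) ∈ Cell D l' := by
      rw [← h]; exact nl_mem_Cell D _
    have h3 : D.nl l ∈ Cell D l' ∪ Cell D (a :: l') := by
      rw [h1]
      rcases n_mul_Cell A ha h2 with h4 | h4
      · exact Or.inl (mul_mem_Cell ((Bp D).inv_mem (T_le_Bp D (D.n_sq a))) h4)
      · exact Or.inr (mul_mem_Cell ((Bp D).inv_mem (T_le_Bp D (D.n_sq a))) h4)
    rcases h3 with h3 | h3
    · exfalso
      have h5 := ih l' hl2 (fun l₁ h₁ h₁' => by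
        have := hmin l₁ h₁ h₁'
        rw [List.length_cons] at this
        omega) (Cell_eq_of_mem (nl_mem_Cell D l) h3)
      have h6 := hmin l hl2 h5
      rw [List.length_cons] at h6
      omega
    · have h5 := ih (a :: l') hl2 (fun l₁ h₁ h₁' => by
        have h7 : D.wl (a :: l₁) = D.wl l' := by
          rw [BData.wl_cons, h₁', BData.wl_cons, ← mul_assoc]
          have : D.s a * D.s a = 1 := Equiv.ext fun c => A.ss a c
          rw [this, one_mul]
        have h8 := hmin (a :: l₁) (by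
          intro c hc
          rcases List.mem_cons.1 hc with rfl | hc
          · exact ha
          · exact h₁ c hc) h7
        simp only [List.length_cons] at h8
        omega) (Cell_eq_of_mem (nl_mem_Cell D l) h3)
      rw [BData.wl_cons, h5, BData.wl_cons, ← mul_assoc]
      have : D.s a * D.s a = 1 := Equiv.ext fun c => A.ss a c
      rw [this, one_mul]

include W in
/-- a simple word of minimal length -/
lemma exists_min (l : List idx) : ∃ l₀ : List idx, (∀ a ∈ l₀, a ∈ D.simple) ∧ D.wl l₀ = D.wl l ∧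
    ∀ l₁ : List idx, (∀ a ∈ l₁, a ∈ D.simple) → D.wl l₁ = D.wl l → l₀.length ≤ l₁.length := by
  classical
  have hex : ∃ n : ℕ, ∃ l₁ : List idx, (∀ a ∈ l₁, a ∈ D.simple) ∧ D.wl l₁ = D.wl l ∧ l₁.length = n := by
    obtain ⟨l₁, h₁, h₂⟩ := W.simple_word l
    exact ⟨_, l₁, h₁, h₂, rfl⟩
  obtain ⟨l₀, h₁, h₂, h₃⟩ := Nat.find_spec hex
  refine ⟨l₀, h₁, h₂, fun l₁ h₁' h₂' => ?_⟩
  rw [h₃]
  exact Nat.find_min' hex ⟨l₁, h₁', h₂', rfl⟩

include A W in
/-- **the cells of different Weyl group elements are disjoint** -/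
theorem wl_eq_of_Cell_eq {l l' : List idx} (h : Cell D l = Cell D l') : D.wl l = D.wl l' := by
  obtain ⟨l₀, h₀, h₀', h₀''⟩ := exists_min W l
  obtain ⟨l₁, h₁, h₁', h₁''⟩ := exists_min W l'
  have hc : Cell D l₀ = Cell D l₁ := by
    rw [Cell_congr W h₀', h, Cell_congr W h₁'.symm]
  rw [← h₀', ← h₁']
  rcases le_total l₀.length l₁.length with hle | hle
  · refine uniq_aux A W l₀ l₁ h₀ (fun l₂ h₂ h₂' => ?_) hc
    exact hle.trans (h₁'' l₂ h₂ (h₂'.trans h₁'))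
  · refine (uniq_aux A W l₁ l₀ h₁ (fun l₂ h₂ h₂' => ?_) hc.symm).symm
    exact hle.trans (h₀'' l₂ h₂ (h₂'.trans h₀'))

include A W in
theorem wl_eq_of_mem {l l' : List idx} {g : Γ} (h : g ∈ Cell D l) (h' : g ∈ Cell D l') :
    D.wl l = D.wl l' :=
  wl_eq_of_Cell_eq A W (Cell_eq_of_mem h h')

end uniq

end K210.BNPair
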