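import Groth.Agent.RedSub.K200.WeylComb

/-!
# The Bruhat order on Weyl group elements: lifting property and reduced words

`inv b w` the number of positive roots inverted by `w`; `Step`, `Le` the Bruhat order; for `a` simple
and `w'⁻¹ a > 0`: `u ≤ w'` implies `s_a u ≤ s_a w'`.
-/

set_option autoImplicit false

namespace K210.BruhatOrd

open Groth.Agent.RedSub.H637.PosRoots Groth.Agent.RedSub.K200.WeylComb RedSub

section

variable {idx M N : Type} [AddCommGroup M] [AddCommGroup N] (P : RootPairing idx ℤ M N)

lemma wordPerm_nil : wordPerm P [] = 1 := rfl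

lemma wordPerm_cons (a : idx) (l : List idx) :
    wordPerm P (a :: l) = P.reflectionPerm a * wordPerm P l := by
  unfold wordPerm
  simp

lemma wordPerm_append (l l' : List idx) : wordPerm P (l ++ l') = wordPerm P l * wordPerm P l' := by
  unfold wordPerm
  simp

lemma refl_mul_self (a : idx) : P.reflectionPerm a * P.reflectionPerm a = 1 := by
  have := P.reflectionPerm_sq a
  rwa [sq] at this

lemma refl_inv (a : idx) : (P.reflectionPerm a)⁻¹ = P.reflectionPerm a :=
  inv_eq_of_mul_eq_one_right (refl_mul_self P a)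

lemma refl_mul_refl_mul (a : idx) (w : Equiv.Perm idx) :
    P.reflectionPerm a * (P.reflectionPerm a * w) = w := by
  rw [← mul_assoc, refl_mul_self, one_mul]

lemma wordPerm_reverse (l : List idx) : wordPerm P l.reverse = (wordPerm P l)⁻¹ := by
  induction l with
  | nil => rw [List.reverse_nil, wordPerm_nil, inv_one]
  | cons a l ih =>
    rw [List.reverse_cons, wordPerm_append, ih, wordPerm_cons P a l, mul_inv_rev, refl_inv,
      wordPerm_cons, wordPerm_nil, mul_one]

/-- the elements of the Weyl group -/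
def IsW (w : Equiv.Perm idx) : Prop := ∃ l, wordPerm P l = w

variable {P}

lemma isW_wordPerm (l : List idx) : IsW P (wordPerm P l) := ⟨l, rfl⟩

lemma IsW.refl_mul {w : Equiv.Perm idx} (h : IsW P w) (c : idx) : IsW P (P.reflectionPerm c * w) := by
  obtain ⟨l, rfl⟩ := h
  exact ⟨c :: l, wordPerm_cons P c l⟩

lemma IsW.of_refl_mul {w : Equiv.Perm idx} {c : idx} (h : IsW P (P.reflectionPerm c * w)) :
    IsW P w := by
  have := h.refl_mul c
  rwa [refl_mul_refl_mul] at this

lemma IsW.conj {w : Equiv.Perm idx} (h : IsW P w) (x : idx) :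
    P.reflectionPerm (w x) * w = w * P.reflectionPerm x := by
  obtain ⟨l, rfl⟩ := h
  exact reflectionPerm_word P l x

lemma IsW.neg {w : Equiv.Perm idx} (h : IsW P w) (x : idx) :
    w (P.reflectionPerm x x) = P.reflectionPerm (w x) (w x) :=
  (congrArg (fun e : Equiv.Perm idx => e x) (h.conj x)).symm

lemma IsW.inv {w : Equiv.Perm idx} (h : IsW P w) : IsW P w⁻¹ := by
  obtain ⟨l, rfl⟩ := h
  exact ⟨l.reverse, wordPerm_reverse P l⟩

lemma refl_refl (P : RootPairing idx ℤ M N) (a x : idx) :
    P.reflectionPerm a (P.reflectionPerm a x) = x := P.reflectionPerm_self a x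

/-- the reflection in `s_a c` -/
lemma refl_conj (a c : idx) : P.reflectionPerm (P.reflectionPerm a c) * P.reflectionPerm a =
    P.reflectionPerm a * P.reflectionPerm c := by
  have h : IsW P (P.reflectionPerm a) := ⟨[a], by rw [wordPerm_cons, wordPerm_nil, mul_one]⟩
  exact h.conj c

end

section fin

variable {idx M N : Type} [AddCommGroup M] [AddCommGroup N] [Finite idx]
  {P : RootPairing idx ℤ M N} (b : P.Base)

omit [Finite idx] in
lemma isPos_refl_self (a : idx) : b.IsPos (P.reflectionPerm a a) ↔ ¬ b.IsPos a :=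
  RootPairing.Base.IsPos.neg_iff_not b a

/-- the number of inversions -/
noncomputable def inv (w : Equiv.Perm idx) : ℕ := Set.ncard {a : idx | b.IsPos a ∧ ¬ b.IsPos (w a)}

lemma inv_eq (w : Equiv.Perm idx) :
    Set.ncard {a : idx | a ∈ posRoots P b ∧ w a ∈ negRoots P b} = inv b w := by
  simp only [mem_posRoots_iff, mem_negRoots_iff]
  rfl

theorem inv_lt_iff {w : Equiv.Perm idx} (h : IsW P w) {c : idx} (hc : b.IsPos c) :
    inv b w < inv b (P.reflectionPerm c * w) ↔ b.IsPos (w⁻¹ c) := by
  obtain ⟨l, rfl⟩ := h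
  have := ncard_inv_lt_iff b l c ((mem_posRoots_iff b c).2 hc)
  rwa [inv_eq, inv_eq, mem_posRoots_iff] at this

section red

variable [P.IsReduced]

/-- `ℓ(s_a w) = ℓ(w) + 1` if `w⁻¹ a > 0` -/
theorem inv_simple {w : Equiv.Perm idx} (h : IsW P w) {a : idx} (ha : a ∈ b.support)
    (hw : b.IsPos (w⁻¹ a)) : inv b (P.reflectionPerm a * w) = inv b w + 1 := by
  have hpa : b.IsPos a := RootPairing.Base.isPos_of_mem_support ha
  have key : {c : idx | b.IsPos c ∧ ¬ b.IsPos ((P.reflectionPerm a * w) c)} =
      insert (w⁻¹ a) {c : idx | b.IsPos c ∧ ¬ b.IsPos (w c)} := by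
    ext c
    simp only [Set.mem_ofPred_eq, Set.mem_insert_iff, Equiv.Perm.mul_apply]
    constructor
    · rintro ⟨hc, hn⟩
      by_cases hca : w c = a
      · left
        rw [← hca]
        exact (w.symm_apply_apply c).symm
      · exact Or.inr ⟨hc, fun h1 => hn (h1.reflectionPerm ha hca)⟩
    · rintro (rfl | ⟨hc, hn⟩)
      · refine ⟨hw, ?_⟩
        rw [perm_apply_inv, isPos_refl_self]
        exact not_not.2 hpa
      · refine ⟨hc, fun h1 => ?_⟩
        by_cases hd : P.reflectionPerm a (w c) = a
        · -- `w c = -a`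
          have h2 : w c = P.reflectionPerm a a := by rw [← refl_refl P a (w c), hd]
          have h3 : c = w⁻¹ (P.reflectionPerm a a) := by
            rw [← h2]; exact (w.symm_apply_apply c).symm
          rw [h.inv.neg] at h3
          rw [h3, isPos_refl_self] at hc
          exact hc hw
        · have h2 := h1.reflectionPerm ha hd
          rw [refl_refl] at h2
          exact hn h2
  unfold inv
  rw [key, Set.ncard_insert_of_notMem _ (Set.toFinite _)]
  rintro ⟨-, hn⟩
  rw [perm_apply_inv] at hn
  exact hn hpa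

omit [Finite idx] [P.IsReduced] in
lemma inv_apply_of_neg {w : Equiv.Perm idx} (h : IsW P w) {a : idx}
    (hw : ¬ b.IsPos (w⁻¹ a)) : b.IsPos ((P.reflectionPerm a * w)⁻¹ a) := by
  rw [mul_inv_rev, refl_inv, Equiv.Perm.mul_apply, h.inv.neg, isPos_refl_self]
  exact hw

/-- `ℓ(w) = ℓ(s_a w) + 1` if `w⁻¹ a < 0` -/
theorem inv_simple' {w : Equiv.Perm idx} (h : IsW P w) {a : idx} (ha : a ∈ b.support)
    (hw : ¬ b.IsPos (w⁻¹ a)) : inv b w = inv b (P.reflectionPerm a * w) + 1 := by
  have h1 := inv_simple b (h.refl_mul a) ha (inv_apply_of_neg b h hw)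
  rwa [refl_mul_refl_mul] at h1

end red

/-- the covering relation of the Bruhat order -/
def Step (u v : Equiv.Perm idx) : Prop :=
  ∃ c, b.IsPos c ∧ v = P.reflectionPerm c * u ∧ inv b v = inv b u + 1

/-- the Bruhat order -/
abbrev Le (u v : Equiv.Perm idx) : Prop := Relation.ReflTransGen (Step b) u v

variable {b}

omit [Finite idx] in
lemma Step.isW {u v : Equiv.Perm idx} (h : Step b u v) (hv : IsW P v) : IsW P u := by
  obtain ⟨c, -, rfl, -⟩ := h
  exact hv.of_refl_mul

omit [Finite idx] in
lemma Le.isW {u v : Equiv.Perm idx} (h : Le b u v) (hv : IsW P v) : IsW P u := by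
  induction h using Relation.ReflTransGen.head_induction_on with
  | refl => exact hv
  | head h1 _ ih => exact h1.isW ih

variable (b)

/-- the relation of the statement -/
lemma step_eq : (fun u v : Equiv.Perm idx => ∃ c : idx, c ∈ posRoots P b ∧
      v = P.reflectionPerm c * u ∧
      Set.ncard {a : idx | a ∈ posRoots P b ∧ v a ∈ negRoots P b} =
        Set.ncard {a : idx | a ∈ posRoots P b ∧ u a ∈ negRoots P b} + 1) = Step b := by
  funext u v
  simp only [mem_negRoots_iff, mem_posRoots_iff]
  rfl

section red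

variable [P.IsReduced]

lemma step_simple {w : Equiv.Perm idx} (h : IsW P w) {a : idx} (ha : a ∈ b.support)
    (hw : b.IsPos (w⁻¹ a)) : Step b w (P.reflectionPerm a * w) :=
  ⟨a, RootPairing.Base.isPos_of_mem_support ha, rfl, inv_simple b h ha hw⟩

lemma step_simple' {w : Equiv.Perm idx} (h : IsW P w) {a : idx} (ha : a ∈ b.support)
    (hw : ¬ b.IsPos (w⁻¹ a)) : Step b (P.reflectionPerm a * w) w :=
  ⟨a, RootPairing.Base.isPos_of_mem_support ha, (refl_mul_refl_mul P a w).symm,
    inv_simple' b h ha hw⟩

/-- **Lifting property** -/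
theorem le_lift {w' : Equiv.Perm idx} (hw' : IsW P w') {a : idx} (ha : a ∈ b.support)
    (hpos : b.IsPos (w'⁻¹ a)) {u : Equiv.Perm idx} (h : Le b u w') :
    Le b (P.reflectionPerm a * u) (P.reflectionPerm a * w') := by
  have htop : Step b w' (P.reflectionPerm a * w') := step_simple b hw' ha hpos
  induction h using Relation.ReflTransGen.head_induction_on with
  | refl => exact Relation.ReflTransGen.refl
  | @head u v h1 h2 ih =>
    have hv : IsW P v := Le.isW h2 hw'
    have hu : IsW P u := h1.isW hv
    obtain ⟨c, hc, hvc, hn⟩ := h1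
    by_cases hca : c = a
    · subst hca
      rw [← hvc]
      exact h2.tail htop
    · -- `s_a v = s_{s_a c} s_a u`
      have hc' : b.IsPos (P.reflectionPerm a c) := hc.reflectionPerm ha hca
      have h3 : P.reflectionPerm a * v =
          P.reflectionPerm (P.reflectionPerm a c) * (P.reflectionPerm a * u) := by
        rw [hvc, ← mul_assoc, ← refl_conj, mul_assoc]
      have h4 : b.IsPos (u⁻¹ c) := by
        rw [← inv_lt_iff b hu hc, ← hvc]
        omega
      have h5 : inv b (P.reflectionPerm a * u) < inv b (P.reflectionPerm a * v) := by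
        rw [h3, inv_lt_iff b (hu.refl_mul a) hc', mul_inv_rev, refl_inv, Equiv.Perm.mul_apply,
          refl_refl]
        exact h4
      by_cases hua : b.IsPos (u⁻¹ a)
      · have h6 := inv_simple b hu ha hua
        by_cases hva : b.IsPos (v⁻¹ a)
        · have h7 := inv_simple b hv ha hva
          exact Relation.ReflTransGen.head ⟨_, hc', h3, by omega⟩ ih
        · have h7 := inv_simple' b hv ha hva
          omega
      · have h6 := inv_simple' b hu ha hua
        by_cases hva : b.IsPos (v⁻¹ a)
        · exact Relation.ReflTransGen.head (step_simple' b hu ha hua)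
            (Relation.ReflTransGen.head ⟨c, hc, hvc, hn⟩ (h2.tail htop))
        · have h7 := inv_simple' b hv ha hva
          exact Relation.ReflTransGen.head ⟨_, hc', h3, by omega⟩ ih

theorem le_lift' {w' : Equiv.Perm idx} (hw' : IsW P w') {a : idx} (ha : a ∈ b.support)
    (hpos : b.IsPos (w'⁻¹ a)) {u : Equiv.Perm idx} (h : Le b u w') :
    Le b u (P.reflectionPerm a * w') :=
  h.tail (step_simple b hw' ha hpos)

/-- every reflection is given by a simple word -/
theorem exists_simple_refl (c : idx) : ∃ l', (∀ a ∈ l', a ∈ b.support) ∧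
    wordPerm P l' = P.reflectionPerm c := by
  have key : ∀ c : idx, b.IsPos c → ∃ l', (∀ a ∈ l', a ∈ b.support) ∧
      wordPerm P l' = P.reflectionPerm c := by
    intro c hc
    refine hc.induction_on_reflect (p := fun c => ∃ l', (∀ a ∈ l', a ∈ b.support) ∧
      wordPerm P l' = P.reflectionPerm c) (fun j hj => ⟨[j], by simpa using hj, by
        rw [wordPerm_cons, wordPerm_nil, mul_one]⟩) ?_
    rintro j k ⟨l, hl, hjl⟩ hk
    refine ⟨k :: (l ++ [k]), ?_, ?_⟩
    · intro a ha
      rw [List.mem_cons, List.mem_append, List.mem_singleton] at ha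
      rcases ha with rfl | ha | rfl
      · exact hk
      · exact hl a ha
      · exact hk
    · rw [wordPerm_cons, wordPerm_append, hjl, wordPerm_cons, wordPerm_nil, mul_one, ← mul_assoc,
        ← refl_conj, mul_assoc, refl_mul_self, mul_one]
  by_cases hc : b.IsPos c
  · exact key c hc
  · obtain ⟨l, hl, h⟩ := key (P.reflectionPerm c c) ((isPos_refl_self b c).2 hc)
    refine ⟨l, hl, h.trans ?_⟩
    have h1 := refl_conj (P := P) c c
    exact mul_right_cancel h1

theorem exists_simple_word (l : List idx) : ∃ l', (∀ a ∈ l', a ∈ b.support) ∧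
    wordPerm P l' = wordPerm P l := by
  induction l with
  | nil => exact ⟨[], by simp, rfl⟩
  | cons c l ih =>
    obtain ⟨l₁, h₁, h₁'⟩ := ih
    obtain ⟨l₂, h₂, h₂'⟩ := exists_simple_refl b c
    refine ⟨l₂ ++ l₁, ?_, ?_⟩
    · intro a ha
      rcases List.mem_append.1 ha with h | h
      · exact h₂ a h
      · exact h₁ a h
    · rw [wordPerm_append, h₁', h₂', wordPerm_cons]

/-- reduced words -/
def Red : List idx → Prop
  | [] => True
  | a :: l => a ∈ b.support ∧ b.IsPos ((wordPerm P l)⁻¹ a) ∧ Red l

/-- minimal simple words are reduced -/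
theorem red_of_min (l : List idx) (hl : ∀ a ∈ l, a ∈ b.support)
    (hmin : ∀ l₁ : List idx, (∀ a ∈ l₁, a ∈ b.support) → wordPerm P l₁ = wordPerm P l →
      l.length ≤ l₁.length) : Red b l := by
  induction l with
  | nil => trivial
  | cons a l ih =>
    have ha : a ∈ b.support := hl a (by simp)
    have hl2 : ∀ a ∈ l, a ∈ b.support := fun c hc => hl c (by simp [hc])
    refine ⟨ha, ?_, ih hl2 fun l₁ h₁ h₁' => ?_⟩
    · by_contra hn
      obtain ⟨i, hi, he⟩ := exists_exchange b l hl2 a
        ((mem_posRoots_iff b a).2 (RootPairing.Base.isPos_of_mem_support ha))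
        ((mem_negRoots_iff b _).2 hn)
      have h1 : wordPerm P (l.take i ++ l.drop (i + 1)) = wordPerm P (a :: l) := by
        rw [wordPerm_append, ← he, mul_assoc, ← wordPerm_append, List.take_append_drop,
          wordPerm_cons]
      have h2 := hmin _ (fun c hc => by
        rcases List.mem_append.1 hc with h | h
        · exact hl2 c (List.mem_of_mem_take h)
        · exact hl2 c (List.mem_of_mem_drop h)) h1
      simp only [List.length_cons, List.length_append, List.length_take, List.length_drop] at h2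
      omega
    · have := hmin (a :: l₁) (fun c hc => by
        rcases List.mem_cons.1 hc with rfl | hc
        · exact ha
        · exact h₁ c hc) (by rw [wordPerm_cons, wordPerm_cons, h₁'])
      simp only [List.length_cons] at this
      omega

/-- every element has a reduced word -/
theorem exists_red (l : List idx) : ∃ l₀, Red b l₀ ∧ wordPerm P l₀ = wordPerm P l := by
  classical
  have hex : ∃ n : ℕ, ∃ l₁ : List idx, (∀ a ∈ l₁, a ∈ b.support) ∧
      wordPerm P l₁ = wordPerm P l ∧ l₁.length = n := by
    obtain ⟨l₁, h₁, h₂⟩ := exists_simple_word b l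
    exact ⟨_, l₁, h₁, h₂, rfl⟩
  obtain ⟨l₀, h₁, h₂, h₃⟩ := Nat.find_spec hex
  refine ⟨l₀, red_of_min b l₀ h₁ fun l₁ h₁' h₂' => ?_, h₂⟩
  rw [h₃]
  exact Nat.find_min' hex ⟨l₁, h₁', h₂'.trans h₂, rfl⟩

end red

end fin

end K210.BruhatOrd
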