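import Groth.Agent.RedSub.K210.BNPair
import Groth.Agent.RedSub.K210.BruhatOrd
import Mathlib.Topology.Basic
import Mathlib.Topology.Continuous
import Mathlib.Algebra.Group.Pointwise.Set.Basic

/-!
# Closures of double cosets and the Bruhat order, abstract form

`Γ` a group with the data `E` of the Bruhat decomposition, a topology with continuous translations, such
that products `X Z` of a closed right `Bp`-stable set and a closed left `Bp`-stable set are closed, `Bp`
and the minimal parabolics are closed, and `n_l` is in the closure of `Cell (c :: l)` if `w_l⁻¹ c > 0`.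
Then `Cell l' ⊆ closure (Cell l)` if and only if `w_{l'} ≤ w_l`.
-/

set_option autoImplicit false

universe u

namespace K210.BruhatTop

open K210.BNPair K210.BruhatOrd Groth.Agent.RedSub.H637.BruhatAbs RedSub
open scoped Pointwise

variable {Γ : Type u} [Group Γ] [TopologicalSpace Γ] {idx : Type} [Fintype idx]
  {M N : Type} [AddCommGroup M] [AddCommGroup N]

/-- the topological hypotheses -/
structure TopAx (E : BData Γ idx) (A : Ax E) : Prop where
  left : ∀ a : Γ, Continuous fun b : Γ => a * b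
  right : ∀ a : Γ, Continuous fun b : Γ => b * a
  mul_closed : ∀ X Z : Set Γ, IsClosed X → IsClosed Z → (∀ x ∈ X, ∀ b ∈ Bp E, x * b ∈ X) →
    (∀ z ∈ Z, ∀ b ∈ Bp E, b * z ∈ Z) → IsClosed (X * Z)
  Bp_closed : IsClosed (Bp E : Set Γ)
  Pa_closed : ∀ a (ha : a ∈ E.simple), IsClosed (Pa A a ha : Set Γ)
  lim : ∀ c, c ∉ E.neg → ∀ l, (E.wl l)⁻¹ c ∉ E.neg → E.nl l ∈ closure (Cell E (c :: l))

variable {E : BData Γ idx} {A : Ax E} (W : WAx E) (τ : TopAx E A)
  {P : RootPairing idx ℤ M N} [P.IsReduced] (b : P.Base) (hs : E.s = P.reflectionPerm)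
  (hneg : ∀ a, a ∈ E.neg ↔ ¬ b.IsPos a) (hsimple : ∀ a, a ∈ E.simple ↔ a ∈ b.support)

omit [TopologicalSpace Γ] [Fintype idx] [P.IsReduced] in
include hs in
lemma wl_eq (l : List idx) : E.wl l = wordPerm P l := by
  rw [BData.wl, hs]
  rfl

include τ in
lemma closure_stable {l : List idx} {x y g : Γ} (hx : x ∈ Bp E) (hy : y ∈ Bp E)
    (hg : g ∈ closure (Cell E l)) : x * g * y ∈ closure (Cell E l) := by
  have h1 : x * g ∈ closure (Cell E l) :=
    map_mem_closure (τ.left x) hg fun z hz => mul_mem_Cell hx hz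
  exact map_mem_closure (f := fun z => z * y) (τ.right y) h1 fun z hz => Cell_mul_mem hy hz

include τ in
/-- one step -/
lemma Cell_subset_closure {c : idx} (hc : c ∉ E.neg) {l : List idx} (hl : (E.wl l)⁻¹ c ∉ E.neg) :
    Cell E l ⊆ closure (Cell E (c :: l)) := by
  rintro _ ⟨x, hx, y, hy, rfl⟩
  exact closure_stable τ hx hy (τ.lim c hc l hl)

include τ hs hneg in
omit [P.IsReduced] in
theorem exists_of_le {l' : List idx} {v : Equiv.Perm idx} (h : Le b (E.wl l') v) :
    ∃ l, E.wl l = v ∧ Cell E l' ⊆ closure (Cell E l) := by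
  induction h with
  | refl => exact ⟨l', rfl, subset_closure⟩
  | @tail u v _ h2 ih =>
    obtain ⟨l, hl, h3⟩ := ih
    obtain ⟨c, hc, rfl, hn⟩ := h2
    refine ⟨c :: l, by rw [BData.wl_cons, hl, hs], h3.trans ?_⟩
    refine closure_minimal (Cell_subset_closure τ ?_ ?_) isClosed_closure
    · rw [hneg]; exact not_not.2 hc
    · rw [hneg, not_not, hl, ← inv_lt_iff b (w := u) ⟨l, by rw [← wl_eq (P := P) hs, hl]⟩ hc]
      omega

include W τ hs hneg in
omit [P.IsReduced] in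
/-- the Bruhat order implies the inclusion in the closure -/
theorem subset_of_le {l l' : List idx} (h : Le b (E.wl l') (E.wl l)) :
    Cell E l' ⊆ closure (Cell E l) := by
  obtain ⟨l₁, h₁, h₂⟩ := exists_of_le τ b hs hneg h
  rwa [Cell_congr W h₁] at h₂

include τ hs hsimple in
/-- the closed set of a reduced word -/
theorem exists_closed (l : List idx) (hl : Red b l) : ∃ Y : Set Γ, IsClosed Y ∧ Cell E l ⊆ Y ∧
    (∀ z ∈ Y, ∀ b ∈ Bp E, b * z ∈ Y) ∧
    ∀ y ∈ Y, ∃ l₁, Le b (E.wl l₁) (E.wl l) ∧ y ∈ Cell E l₁ := by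
  induction l with
  | nil =>
    refine ⟨Bp E, τ.Bp_closed, ?_, fun z hz b hb => (Bp E).mul_mem hb hz, fun y hy =>
      ⟨[], Relation.ReflTransGen.refl, ?_⟩⟩
    · rw [Cell_nil]
    · rw [Cell_nil]; exact hy
  | cons a l ih =>
    obtain ⟨ha, hpos, hl⟩ := hl
    obtain ⟨Y, hY, h1, h2, h3⟩ := ih hl
    have ha' : a ∈ E.simple := (hsimple a).2 ha
    refine ⟨(Pa A a ha' : Set Γ) * Y, ?_, ?_, ?_, ?_⟩
    · exact τ.mul_closed _ _ (τ.Pa_closed a ha') hY
        (fun x hx b hb => (Pa A a ha').mul_mem hx (Bp_le_Pa A hb)) h2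
    · rintro _ ⟨x, hx, y, hy, rfl⟩
      refine ⟨x * E.n a, (Pa A a ha').mul_mem (Bp_le_Pa A hx) (n_mem_Pa A), E.nl l * y,
        h1 (Cell_mul_mem hy (nl_mem_Cell E l)), ?_⟩
      simp only [BData.nl_cons, mul_assoc]
    · rintro _ ⟨x, hx, y, hy, rfl⟩ b hb
      exact ⟨b * x, (Pa A a ha').mul_mem (Bp_le_Pa A hb) hx, y, hy, mul_assoc _ _ _⟩
    · rintro _ ⟨x, hx, y, hy, rfl⟩
      obtain ⟨l₁, h4, h5⟩ := h3 y hy
      have hw : IsW P (E.wl l) := ⟨l, (wl_eq hs l).symm⟩
      have hpos' : b.IsPos ((E.wl l)⁻¹ a) := by rw [wl_eq hs]; exact hpos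
      rcases Pa_mul_Cell A ha' hx h5 with h6 | h6
      · refine ⟨l₁, ?_, h6⟩
        rw [BData.wl_cons, hs]
        exact le_lift' b hw ha hpos' h4
      · refine ⟨a :: l₁, ?_, h6⟩
        rw [BData.wl_cons, BData.wl_cons, hs]
        exact le_lift b hw ha hpos' h4

include W τ hs hneg hsimple in
/-- **Chevalley–Bruhat order**, abstract form. -/
theorem main (l l' : List idx) :
    Cell E l' ⊆ closure (Cell E l) ↔ Le b (wordPerm P l') (wordPerm P l) := by
  rw [← wl_eq (E := E) hs, ← wl_eq (E := E) hs]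
  refine ⟨fun h => ?_, subset_of_le W τ b hs hneg⟩
  obtain ⟨l₀, h₀, h₀'⟩ := exists_red b l
  rw [← wl_eq (E := E) hs, ← wl_eq (E := E) hs] at h₀'
  obtain ⟨Y, hY, h1, -, h3⟩ := exists_closed τ b hs hsimple l₀ h₀
  rw [← Cell_congr W h₀'] at h
  obtain ⟨l₁, h4, h5⟩ := h3 _ (closure_minimal h1 hY (h (nl_mem_Cell E l')))
  rw [wl_eq_of_mem A W (nl_mem_Cell E l') h5, ← h₀']
  exact h4

end K210.BruhatTop
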