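import Groth.Agent.SGA3.K209.WordNorm
import Groth.Agent.RedSub.H661.SmoothMul
import Groth.Prelude.Def_RedSub
import Mathlib.AlgebraicGeometry.Morphisms.FlatDescent
import Mathlib.AlgebraicGeometry.Morphisms.Proper

/-!
# Closed subsets of rational points, products of closed sets

`K` algebraically closed, all schemes locally of finite type over `K`, `Pts X` the rational points with
the Zariski topology.

* open (closed, surjective) morphisms induce such maps on rational points;
* `range_subset_closure_iff`: inclusions in closures of images can be checked on rational points;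
* `mul_closed`: if `G/B` exists and is proper, `X ⊆ G(K)` is closed and right `B`-stable and `Z ⊆ G(K)`
  is closed and left `B`-stable then `X Z` is closed.
-/

set_option autoImplicit false
universe u
open CategoryTheory CategoryTheory.Limits MonoidalCategory CartesianMonoidalCategory MonObj GrpObj
open AlgebraicGeometry TopologicalSpace Topology
open scoped Pointwise

namespace K210.PtsClosed

open K209.Words K209.WordSch K209.WordNorm Groth.Agent.Sga3.H782 Groth.Agent.Sga3.H782.Points

attribute [local instance] top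

variable {K : Type u} [Field K] [IsAlgClosed K]

section maps

variable {P H : Over (Spec (CommRingCat.of K))} [LocallyOfFiniteType P.hom]
  [LocallyOfFiniteType H.hom] (φ : P ⟶ H)

/-- rational points in the image of a locally closed set lift to rational points of that set -/
theorem exists_lift_mem (g : Pts H) {Z : Set P.left} (hZ : IsLocallyClosed Z)
    (hg : ev g ∈ φ.left.base '' Z) : ∃ p : Pts P, p ≫ φ = g ∧ ev p ∈ Z := by
  have : JacobsonSpace P.left := LocallyOfFiniteType.jacobsonSpace P.hom
  have h1 : ev g ∈ closedPoints H.left := by rw [← range_ev]; exact ⟨g, rfl⟩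
  have h2 : IsLocallyClosed (Z ∩ φ.left.base ⁻¹' {ev g}) :=
    hZ.inter (IsClosed.preimage φ.left.continuous h1).isLocallyClosed
  obtain ⟨p₀, hp₀, hp₀'⟩ := hg
  have h3 : ((Z ∩ φ.left.base ⁻¹' {ev g}) ∩ closedPoints P.left).Nonempty := by
    by_contra h
    rw [Set.not_nonempty_iff_eq_empty] at h
    have h4 := JacobsonSpace.closure_inter_closedPoints_eq_closure h2
    rw [h, closure_empty] at h4
    have : p₀ ∈ (∅ : Set P.left) := by rw [h4]; exact subset_closure ⟨hp₀, hp₀'⟩
    exact this
  obtain ⟨q, ⟨hqZ, hq⟩, hqc⟩ := h3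
  rw [← range_ev] at hqc
  obtain ⟨p, rfl⟩ := hqc
  refine ⟨p, ev_injective ?_, hqZ⟩
  rw [ev_comp]
  exact hq

theorem image_comp_preimage {Z : Set P.left} (hZ : IsLocallyClosed Z) :
    (fun p : Pts P => (p ≫ φ : Pts H)) '' (ev ⁻¹' Z) = ev ⁻¹' (φ.left.base '' Z) := by
  ext g
  constructor
  · rintro ⟨p, hp, rfl⟩
    exact ⟨ev p, hp, (ev_comp p φ).symm⟩
  · intro hg
    obtain ⟨p, h1, h2⟩ := exists_lift_mem φ g hZ hg
    exact ⟨p, h2, h1⟩

/-- open morphisms are open on rational points -/
theorem isOpenMap_comp (h : IsOpenMap φ.left.base) :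
    IsOpenMap (fun p : Pts P => (p ≫ φ : Pts H)) := by
  intro U hU
  obtain ⟨U', hU', rfl⟩ := isInducing_ev.isOpen_iff.mp hU
  rw [image_comp_preimage φ hU'.isLocallyClosed]
  exact (h U' hU').preimage isInducing_ev.continuous

/-- closed morphisms are closed on rational points -/
theorem isClosedMap_comp (h : IsClosedMap φ.left.base) :
    IsClosedMap (fun p : Pts P => (p ≫ φ : Pts H)) := by
  intro U hU
  obtain ⟨U', hU', rfl⟩ := isInducing_ev.isClosed_iff.mp hU
  rw [image_comp_preimage φ hU'.isLocallyClosed]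
  exact (h U' hU').preimage isInducing_ev.continuous

/-- surjective morphisms are surjective on rational points -/
theorem surjective_comp (h : Function.Surjective φ.left.base) :
    Function.Surjective (fun p : Pts P => (p ≫ φ : Pts H)) := by
  intro g
  exact exists_lift φ g (h (ev g))

theorem isConstructible_range [QuasiCompact P.hom] [QuasiCompact H.hom] :
    IsConstructible (Set.range fun p : Pts P => (p ≫ φ : Pts H)) := by
  have h0 : NoetherianSpace (Pts H) := noetherianSpace
  have h1 : IsLocallyNoetherian H.left := LocallyOfFiniteType.isLocallyNoetherian H.hom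
  have h2 : CompactSpace H.left := QuasiCompact.compactSpace_of_compactSpace H.hom
  have h3 : (Set.range fun p : Pts P => (p ≫ φ : Pts H)) = ev ⁻¹' (Set.range φ.left.base) := by
    ext g
    exact (mem_range_iff φ g).symm
  rw [h3]
  exact isConstructible_preimage isInducing_ev.continuous
    (isLocallyConstructible_range φ).isConstructible

omit [LocallyOfFiniteType H.hom] in
/-- the closure of an image is the closure of its rational points -/
theorem closure_range : closure (Set.range φ.left.base) =
    closure (ev '' Set.range fun p : Pts P => (p ≫ φ : Pts H)) := by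
  have : JacobsonSpace P.left := LocallyOfFiniteType.jacobsonSpace P.hom
  apply Set.Subset.antisymm
  · refine closure_minimal ?_ isClosed_closure
    rintro _ ⟨x, rfl⟩
    have h1 : x ∈ closure (closedPoints P.left) := by
      have h := JacobsonSpace.closure_inter_closedPoints (X := P.left) isClosed_univ
      rw [Set.univ_inter] at h
      rw [h]
      trivial
    refine map_mem_closure φ.left.continuous h1 ?_
    intro z hz
    rw [← range_ev] at hz
    obtain ⟨p, rfl⟩ := hz
    exact ⟨_, ⟨p, rfl⟩, ev_comp p φ⟩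
  · refine closure_mono ?_
    rintro _ ⟨_, ⟨p, rfl⟩, rfl⟩
    exact ⟨ev p, (ev_comp p φ).symm⟩

omit [LocallyOfFiniteType H.hom] in
/-- inclusions in closures can be checked on rational points -/
theorem range_subset_closure_iff {P' : Over (Spec (CommRingCat.of K))}
    [LocallyOfFiniteType P'.hom] (φ' : P' ⟶ H) :
    Set.range φ'.left.base ⊆ closure (Set.range φ.left.base) ↔
      (Set.range fun p : Pts P' => (p ≫ φ' : Pts H)) ⊆
        closure (Set.range fun p : Pts P => (p ≫ φ : Pts H)) := by
  rw [← isClosed_closure.closure_subset_iff, closure_range φ', closure_range φ,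
    isClosed_closure.closure_subset_iff, Set.image_subset_iff,
    isInducing_ev.closure_eq_preimage_closure_image]

end maps

section quot

variable {G B Q : Over (Spec (CommRingCat.of K))} [GrpObj G] [GrpObj B] (i : B ⟶ G)
  {q : G ⟶ Q} (hq : RedSub.IsQuotient i q)

include hq in
omit [IsAlgClosed K] [GrpObj B] in
/-- points of `G` with the same image in `G/B` -/
theorem exists_of_comp_eq {T : Over (Spec (CommRingCat.of K))} {g h : T ⟶ G}
    (hgh : g ≫ q = h ≫ q) : ∃ b : T ⟶ B, h = g * (b ≫ i) := by
  let m : T ⟶ G ⊗ B := hq.2.2.2.lift g h hgh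
  refine ⟨m ≫ snd G B, ?_⟩
  have h1 : m ≫ fst G B = g := hq.2.2.2.lift_fst _ _ _
  have h2 : m ≫ (G ◁ i) ≫ μ[G] = h := hq.2.2.2.lift_snd _ _ _
  rw [← h2, Hom.mul_def, ← h1, ← Category.assoc]
  congr 1
  apply CartesianMonoidalCategory.hom_ext <;> simp

variable [LocallyOfFiniteType G.hom] [IsProper Q.hom]

include hq in
omit [GrpObj B] in
/-- **Products of closed sets of points**, using that `G/B` is proper. -/
theorem mul_closed {X Z : Set (Pts G)} (hX : IsClosed X) (hZ : IsClosed Z)
    (hXB : ∀ x ∈ X, ∀ b : Pts B, x * (b ≫ i) ∈ X) (hZB : ∀ z ∈ Z, ∀ b : Pts B, (b ≫ i)⁻¹ * z ∈ Z) :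
    IsClosed (X * Z) := by
  obtain ⟨h1, h2, h3, -⟩ := id hq
  -- the closed set of pairs
  let F : Set (Pts (G ⊗ G)) := {p | p ≫ fst G G ∈ X ∧ p ≫ ((fst G G)⁻¹ * snd G G) ∈ Z}
  have hF : IsClosed F :=
    (hX.preimage (continuous_comp (fst G G))).inter
      (hZ.preimage (continuous_comp ((fst G G)⁻¹ * snd G G)))
  let π : G ⊗ G ⟶ Q ⊗ G := q ▷ G
  have hs : Surjective π.left := Groth.Agent.RedSub.H661.SmoothMul.whiskerRight_left @Surjective G q h1
  have hf : Flat π.left := Groth.Agent.RedSub.H661.SmoothMul.whiskerRight_left @Flat G q h2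
  have hl : LocallyOfFinitePresentation π.left :=
    Groth.Agent.RedSub.H661.SmoothMul.whiskerRight_left @LocallyOfFinitePresentation G q h3
  have ho : IsOpenMap π.left.base := π.left.isOpenMap
  have hπo := isOpenMap_comp π ho
  have hπs := surjective_comp π hs.surj
  let f : Pts (G ⊗ G) → Pts (Q ⊗ G) := fun p => p ≫ π
  -- saturation
  have hsat : ∀ p p' : Pts (G ⊗ G), p ≫ π = p' ≫ π → p ∈ F → p' ∈ F := by
    intro p p' hpp hp
    have e1 : (p ≫ fst G G) ≫ q = (p' ≫ fst G G) ≫ q := by
      have := congrArg (fun z => z ≫ fst Q G) hpp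
      simpa [π] using this
    have e2 : p ≫ snd G G = p' ≫ snd G G := by
      have := congrArg (fun z => z ≫ snd Q G) hpp
      simpa [π] using this
    obtain ⟨b, hb⟩ := exists_of_comp_eq i hq e1
    refine ⟨?_, ?_⟩
    · rw [hb]
      exact hXB _ hp.1 b
    · have h4 : p' ≫ ((fst G G)⁻¹ * snd G G) =
          (b ≫ i)⁻¹ * (p ≫ ((fst G G)⁻¹ * snd G G)) := by
        rw [MonObj.comp_mul, MonObj.comp_mul, GrpObj.comp_inv, GrpObj.comp_inv, ← e2, hb]
        group
      change p' ≫ ((fst G G)⁻¹ * snd G G) ∈ Z
      rw [h4]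
      exact hZB _ hp.2 b
  have hC : IsClosed (f '' F) := by
    have h5 : (f '' F)ᶜ = f '' Fᶜ := by
      ext y
      constructor
      · intro hy
        obtain ⟨p, rfl⟩ := hπs y
        exact ⟨p, fun hp => hy ⟨p, hp, rfl⟩, rfl⟩
      · rintro ⟨p, hp, rfl⟩ ⟨p', hp', h⟩
        exact hp (hsat p' p h hp')
    rw [← isOpen_compl_iff, h5]
    exact hπo _ hF.isOpen_compl
  have hc : IsClosedMap (snd Q G).left.base := by
    have : UniversallyClosed (snd Q G).left :=
      Groth.Agent.RedSub.H661.SmoothMul.snd_left @UniversallyClosed Q G inferInstance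
    exact (snd Q G).left.isClosedMap
  have h6 : X * Z = (fun p : Pts (Q ⊗ G) => (p ≫ snd Q G : Pts G)) '' (f '' F) := by
    ext g
    constructor
    · rintro ⟨x, hx, z, hz, rfl⟩
      refine ⟨_, ⟨lift x (x * z), ⟨?_, ?_⟩, rfl⟩, ?_⟩
      · rw [lift_fst]; exact hx
      · rw [MonObj.comp_mul, GrpObj.comp_inv, lift_fst, lift_snd, inv_mul_cancel_left]
        exact hz
      · simp [f, π]
    · rintro ⟨_, ⟨p, hp, rfl⟩, rfl⟩
      refine ⟨_, hp.1, _, hp.2, ?_⟩
      simp [f, π, MonObj.comp_mul, GrpObj.comp_inv]
  rw [h6]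
  exact isClosedMap_comp (snd Q G) hc _ hC

end quot

end K210.PtsClosed
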