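import Groth.Agent.RedSub.K210.BruhatWax
import Groth.Agent.RedSub.K210.BruhatTop
import Groth.Agent.RedSub.K194.Refl
import Groth.Agent.RedSub.K210.PtsClosed
import Groth.Agent.Sga3.H783.GaGm
import Groth.Agent.RedSub.H635.GaSm
import Groth.Agent.S3952
import Groth.Agent.S3968

/-!
# Closures of double cosets and the Bruhat order

The topological axioms of `BruhatTop` for the rational points of a split reductive group over an
algebraically closed field, and the theorem on closures of double cosets.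
-/

set_option autoImplicit false
universe u

open CategoryTheory MonoidalCategory CartesianMonoidalCategory MonObj GrpObj AlgebraicGeometry Limits
open TopologicalSpace Topology
open scoped Pointwise

namespace K210.BruhatPts

open Groth.Agent.Sga3B Groth.Agent.Sga3B.Cell Groth.Agent.Sga3B.Cell.Datum Groth.Agent.Sga3B.PinMod
open Groth.Agent.Sga3B.DSPts Groth.Agent.Sga3B.GaPts
open Groth.Agent.RedSub.H637 Groth.Agent.RedSub.H637.BruhatDatum Groth.Agent.RedSub.H637.BruhatMain
open Groth.Agent.RedSub.H637.BruhatAbs Groth.Agent.RedSub.H636.CellPts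
open Groth.Agent.Sga3.H782 Groth.Agent.Sga3.H782.Points K210.BNPair K210.PtsClosed K210.BruhatTop

attribute [local instance] top

variable {k : Type u} [Field k] {G : Over (Spec (CommRingCat.of k))} [GrpObj G]

section topology

variable (c : Chart G (𝟙 (Spec (CommRingCat.of k))))

/-- the Zariski topology on the points of the chart -/
noncomputable abbrev ptTop : TopologicalSpace (Pt k c.A k) :=
  TopologicalSpace.induced (eqv c) top

attribute [local instance] ptTop

/-- the points of the chart as a topological space -/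
noncomputable def homeo : Pt k c.A k ≃ₜ Pts G :=
  (eqv c).toEquiv.toHomeomorphOfIsInducing ⟨rfl⟩

lemma homeo_apply (g : Pt k c.A k) : homeo c g = eqv c g := rfl

lemma isClosed_iff {X : Set (Pt k c.A k)} : IsClosed X ↔ IsClosed (eqv c '' X) :=
  (homeo c).isClosed_image.symm

lemma subset_closure_iff {X Y : Set (Pt k c.A k)} :
    X ⊆ closure Y ↔ eqv c '' X ⊆ closure (eqv c '' Y) := by
  have h : eqv c '' closure Y = closure (eqv c '' Y) := (homeo c).image_closure Y
  rw [← h]
  exact (Set.image_subset_image_iff (eqv c).injective).symm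

lemma continuous_left (a : Pt k c.A k) : Continuous fun g => a * g := by
  have h : Continuous fun g : Pts G => eqv c a * g := zarCont.left _
  have h2 := ((homeo c).symm.continuous.comp h).comp (homeo c).continuous
  convert h2 using 1
  funext g
  apply (eqv c).injective
  change _ = eqv c ((homeo c).symm (eqv c a * eqv c g))
  rw [← map_mul]
  exact ((homeo c).apply_symm_apply (eqv c (a * g))).symm

lemma continuous_right (a : Pt k c.A k) : Continuous fun g => g * a := by
  have h : Continuous fun g : Pts G => g * eqv c a := zarCont.right _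
  have h2 := ((homeo c).symm.continuous.comp h).comp (homeo c).continuous
  convert h2 using 1
  funext g
  apply (eqv c).injective
  change _ = eqv c ((homeo c).symm (eqv c g * eqv c a))
  rw [← map_mul]
  exact ((homeo c).apply_symm_apply (eqv c (g * a))).symm

end topology

attribute [local instance] ptTop

section ga

variable [IsAlgClosed k]

/-- `0` is in the closure of the other points of the affine line -/
lemma zero_mem_closure : (gaZ (0 : k)) ∈ closure {z : Pts (Red.Ga (Spec (CommRingCat.of k))) |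
    ∃ x : k, x ≠ 0 ∧ z = gaZ x} := by
  have h0 : IsIntegral (Red.Ga (Spec (CommRingCat.of k))).left :=
    Groth.Agent.Sga3.H783.GaGm.isIntegral_ga k
  have h1 : Smooth (Red.Ga (Spec (CommRingCat.of k))).hom := Groth.Agent.RedSub.H635.GaSm.smooth_ga
  have h2 : IsPreirreducible (Set.univ : Set (Pts (Red.Ga (Spec (CommRingCat.of k))))) := by
    have := isPreirreducible_preimage (H := Red.Ga (Spec (CommRingCat.of k)))
      (Z := Set.univ) (PreirreducibleSpace.isPreirreducible_univ) isClosed_univ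
    rwa [Set.preimage_univ] at this
  have h3 : T1Space (Pts (Red.Ga (Spec (CommRingCat.of k)))) := t1Space
  rw [mem_closure_iff]
  intro U hU h0U
  have hV : IsOpen ({gaZ (0 : k)}ᶜ : Set (Pts (Red.Ga (Spec (CommRingCat.of k))))) :=
    isOpen_compl_singleton
  obtain ⟨z, -, hzU, hz⟩ := h2 U _ hU hV ⟨_, trivial, h0U⟩
    ⟨gaZ (1 : k), trivial, fun h => one_ne_zero (gaZ_injective h)⟩
  obtain ⟨x, rfl⟩ := exists_gaZ z
  exact ⟨gaZ x, hzU, x, fun h => hz (by rw [h]; rfl), rfl⟩

end ga

section main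

variable [IsAlgClosed k] {D : Red.SplitRed G} {c : Chart G (𝟙 (Spec (CommRingCat.of k)))}
  {b : D.P.Base} {nr : D.idx → (𝟙_ (Over (Spec (CommRingCat.of k))) ⟶ G)}
  {E : BData (Pt k c.A k) D.idx} (H : Good D c b nr E)
  (hnr : RedSub.RealisesReflections D nr)

omit [IsAlgClosed k] in
/-- the source of the Borel map is of finite type -/
lemma source_props {m : ℕ} {epos : Fin m → D.idx}
    (hpos : RedSub.Enumerates (RedSub.posRoots D.P b) epos) :
    LocallyOfFiniteType (D.T ⊗ RedSub.pow (Red.Ga (Spec (CommRingCat.of k))) m).hom ∧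
      QuasiCompact (D.T ⊗ RedSub.pow (Red.Ga (Spec (CommRingCat.of k))) m).hom := by
  have h1 := (Groth.Agent.S3952.result D b epos hpos).1
  have h2 : IsAffineHom G.hom := D.reductive.1
  have h3 : Smooth G.hom := D.reductive.2.1
  rw [← Over.w (RedSub.borelMap D epos)]
  exact ⟨inferInstance, inferInstance⟩

include H in
omit [IsAlgClosed k] in
lemma Good.eqv_Bp {m : ℕ} {epos : Fin m → D.idx}
    (hpos : RedSub.Enumerates (RedSub.posRoots D.P b) epos) :
    eqv c '' (Bp E : Set (Pt k c.A k)) =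
      Set.range fun z : Pts (D.T ⊗ RedSub.pow (Red.Ga (Spec (CommRingCat.of k))) m) =>
        (z ≫ RedSub.borelMap D epos : Pts G) := by
  ext g
  constructor
  · rintro ⟨x, hx, rfl⟩
    exact (H.mem_Bp_iff hpos x).1 hx
  · rintro ⟨z, hz⟩
    obtain ⟨x, rfl⟩ := (eqv c).surjective g
    exact ⟨x, (H.mem_Bp_iff hpos x).2 ⟨z, hz⟩, rfl⟩

/-- the double coset map -/
noncomputable abbrev dcMap (D : Red.SplitRed G) {m : ℕ} (epos : Fin m → D.idx)
    (nr : D.idx → (𝟙_ (Over (Spec (CommRingCat.of k))) ⟶ G)) (l : List D.idx) :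
    (D.T ⊗ RedSub.pow (Red.Ga (Spec (CommRingCat.of k))) m) ⊗
      (D.T ⊗ RedSub.pow (Red.Ga (Spec (CommRingCat.of k))) m) ⟶ G :=
  (fst (D.T ⊗ RedSub.pow (Red.Ga (Spec (CommRingCat.of k))) m)
      (D.T ⊗ RedSub.pow (Red.Ga (Spec (CommRingCat.of k))) m) ≫ RedSub.borelMap D epos) *
    (toUnit ((D.T ⊗ RedSub.pow (Red.Ga (Spec (CommRingCat.of k))) m) ⊗
      (D.T ⊗ RedSub.pow (Red.Ga (Spec (CommRingCat.of k))) m)) ≫ (l.map nr).prod) *
    (snd (D.T ⊗ RedSub.pow (Red.Ga (Spec (CommRingCat.of k))) m)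
      (D.T ⊗ RedSub.pow (Red.Ga (Spec (CommRingCat.of k))) m) ≫ RedSub.borelMap D epos)

include H in
omit [IsAlgClosed k] in
lemma Good.eqv_Cell {m : ℕ} {epos : Fin m → D.idx}
    (hpos : RedSub.Enumerates (RedSub.posRoots D.P b) epos) (l : List D.idx) :
    eqv c '' (Cell E l) = Set.range fun z : Pts ((D.T ⊗ RedSub.pow (Red.Ga (Spec (CommRingCat.of k))) m) ⊗
      (D.T ⊗ RedSub.pow (Red.Ga (Spec (CommRingCat.of k))) m)) => (z ≫ dcMap D epos nr l : Pts G) := by
  ext g
  constructor
  · rintro ⟨x, hx, rfl⟩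
    exact (H.mem_Cell_iff hpos l x).1 hx
  · rintro ⟨z, hz⟩
    obtain ⟨x, rfl⟩ := (eqv c).surjective g
    exact ⟨x, (H.mem_Cell_iff hpos l x).2 ⟨z, hz⟩, rfl⟩

lemma isParabolicSub {S : Scheme.{u}} {G B : Over S} [GrpObj G] [GrpObj B] {i : B ⟶ G}
    (h : Red.IsBorel i) : RedSub.IsParabolicSub i := by
  obtain ⟨h1, h2, h3, h4⟩ := h
  refine ⟨⟨h1, inferInstance⟩, h3, fun s => ⟨Red.geomFibre s B, inferInstance, 𝟙 _, ?_⟩⟩
  rw [Category.id_comp]
  exact h4 s

include H in
/-- products of closed sets -/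
theorem Good.mul_closed {X Z : Set (Pt k c.A k)} (hX : IsClosed X) (hZ : IsClosed Z)
    (hXB : ∀ x ∈ X, ∀ b ∈ Bp E, x * b ∈ X) (hZB : ∀ z ∈ Z, ∀ b ∈ Bp E, b * z ∈ Z) :
    IsClosed (X * Z) := by
  obtain ⟨m, epos, hpos⟩ := PosRoots.exists_enumerates (RedSub.posRoots D.P b)
  obtain ⟨-, B, _, i, e, hB, he⟩ := Groth.Agent.S3952.result D b epos hpos
  obtain ⟨-, -, -, Q, q, hq, -, hQ, -⟩ := Groth.Agent.S3968.result D.reductive i (isParabolicSub hB)
  have h3 : Smooth G.hom := D.reductive.2.1
  have h4 : Smooth B.hom := hB.2.2.1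
  have hmon : IsMonHom i := hB.1
  have key : ∀ β : Pts B, ∃ x ∈ Bp E, eqv c x = β ≫ i := by
    intro β
    have h5 : β ≫ i ∈ Set.range fun z : Pts (D.T ⊗ RedSub.pow (Red.Ga (Spec (CommRingCat.of k))) m) =>
        (z ≫ RedSub.borelMap D epos : Pts G) := ⟨β ≫ e.inv, by
      change (β ≫ e.inv) ≫ RedSub.borelMap D epos = _
      rw [← he, Category.assoc, Iso.inv_hom_id_assoc]⟩
    rw [← H.eqv_Bp hpos] at h5
    exact h5
  rw [isClosed_iff] at hX hZ ⊢
  rw [Set.image_mul]
  refine PtsClosed.mul_closed i hq hX hZ ?_ ?_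
  · rintro _ ⟨x, hx, rfl⟩ β
    obtain ⟨y, hy, hy'⟩ := key β
    rw [← hy', ← map_mul]
    exact ⟨_, hXB x hx y hy, rfl⟩
  · rintro _ ⟨x, hx, rfl⟩ β
    obtain ⟨y, hy, hy'⟩ := key β
    rw [← hy', ← map_inv, ← map_mul]
    exact ⟨_, hZB x hx _ ((Bp E).inv_mem hy), rfl⟩

include H in
theorem Good.Bp_closed : IsClosed (Bp E : Set (Pt k c.A k)) := by
  obtain ⟨m, epos, hpos⟩ := PosRoots.exists_enumerates (RedSub.posRoots D.P b)
  obtain ⟨h1, h2⟩ := source_props hpos
  have h3 : Smooth G.hom := D.reductive.2.1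
  have h4 := (Groth.Agent.S3952.result D b epos hpos).1
  rw [isClosed_iff, H.eqv_Bp hpos, ← Set.image_univ]
  exact isClosedMap_comp _ (RedSub.borelMap D epos).left.isClosedEmbedding.isClosedMap _ isClosed_univ

include H in
theorem Good.Pa_closed (a : D.idx) (ha : a ∈ E.simple) :
    IsClosed (Pa H.ax a ha : Set (Pt k c.A k)) := by
  obtain ⟨m, epos, hpos⟩ := PosRoots.exists_enumerates (RedSub.posRoots D.P b)
  obtain ⟨h1, h2⟩ := source_props hpos
  have h3 : Smooth G.hom := D.reductive.2.1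
  have h4 : IsAffineHom G.hom := D.reductive.1
  have h5 : NoetherianSpace (Pts G) := noetherianSpace
  have h6 : eqv c '' (Pa H.ax a ha : Set (Pt k c.A k)) =
      ((Pa H.ax a ha).map (eqv c).toMonoidHom : Set (Pts G)) := rfl
  rw [isClosed_iff, h6]
  refine K209.WordNorm.isClosed_of_isConstructible zarCont _ ?_
  rw [← h6, coe_Pa, Set.image_union, H.eqv_Bp hpos, H.eqv_Cell hpos]
  exact (isConstructible_range _).union (isConstructible_range _)

include H hnr in
/-- `n_l` is in the closure of the cell of `c :: l` -/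
theorem Good.lim (x : D.idx) (hx : x ∉ E.neg) (l : List D.idx) (hl : (E.wl l)⁻¹ x ∉ E.neg) :
    E.nl l ∈ closure (Cell E (x :: l)) := by
  have hred : D.P.IsReduced := (hyp D b c).isReduced
  set y : D.idx := D.P.reflectionPerm x x with hy
  have hyx : D.P.reflectionPerm y y = x := by
    have h : ∀ x, D.P.root (D.P.reflectionPerm x x) = - D.P.root x := fun x => by simp
    apply D.P.root.injective
    rw [h, hy, h, neg_neg]
  have hrefl : D.P.reflection y = D.P.reflection x := by
    rw [hy, D.P.reflection_reflectionPerm]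
    have : D.P.reflection x * D.P.reflection x = 1 := by
      ext m
      simp
    rw [this, _root_.one_mul]
  obtain ⟨b', hb'⟩ := K194.Refl.exists_base_mem D.P y
  have hn : ActsE (D := c.datum D) (secPt c k (nr x)) (D.P.reflection y).toAddEquiv := by
    rw [hrefl]
    exact actsE D hnr c x
  let f : Pts (Red.Ga (Spec (CommRingCat.of k))) → Pt k c.A k :=
    fun z => (eqv c).symm (z ≫ D.u y) * E.nl l
  have hf : Continuous f := by
    have h1 : Continuous fun z : Pts (Red.Ga (Spec (CommRingCat.of k))) =>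
        (eqv c).symm (z ≫ D.u y) := (homeo c).symm.continuous.comp (continuous_comp (D.u y))
    exact (continuous_right c (E.nl l)).comp h1
  have hf' : ∀ z : k, f (gaZ z) = (c.datum D).uu y k z * E.nl l := by
    intro z
    change (eqv c).symm (gaZ z ≫ D.u y) * E.nl l = _
    rw [← eqv_uu D c, MulEquiv.symm_apply_apply]
  have h0 : f (gaZ 0) = E.nl l := by
    have h1 : (c.datum D).uu y k 0 = 1 := Datum.uu_zero (D := c.datum D) y
    rw [hf']
    exact (congrArg (· * E.nl l) h1).trans (_root_.one_mul _)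
  rw [← h0]
  refine map_mem_closure hf zero_mem_closure ?_
  rintro _ ⟨z, hz, rfl⟩
  rw [hf']
  obtain ⟨v, v', t, h⟩ := rank1_opp (hyp D b' c) hyx hb' hn hz
  have hU : ∀ v, (c.datum D).uu x k v ∈ E.U x := by
    intro v
    rw [H.hU]
    exact ⟨v, rfl⟩
  have h1 : (E.nl l)⁻¹ * (c.datum D).uu x k v' * E.nl l ∈ Bp E := nl_U_pos hl (hU v')
  have h2 : (E.nl l)⁻¹ * (c.datum D).i k t * E.nl l ∈ E.T := by
    apply E.nl_inv_T
    rw [H.hT]
    exact ⟨t, rfl⟩
  have h3 : E.n x = bp k (secPt c k (nr x)) := by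
    rw [H.hn]
    exact (bp_secPt c k (nr x)).symm
  refine ⟨(c.datum D).uu x k v, U_le_Bp E hx (hU v),
    ((E.nl l)⁻¹ * (c.datum D).i k t * E.nl l) * ((E.nl l)⁻¹ * (c.datum D).uu x k v' * E.nl l),
    (Bp E).mul_mem (T_le_Bp E h2) h1, ?_⟩
  rw [h, ← h3, BData.nl_cons]
  group

include hnr in
theorem Good.topAx : TopAx E H.ax where
  left := continuous_left c
  right := continuous_right c
  mul_closed _ _ hX hZ hXB hZB := H.mul_closed hX hZ hXB hZB
  Bp_closed := H.Bp_closed
  Pa_closed a ha := H.Pa_closed a ha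
  lim x hx l hl := H.lim hnr x hx l hl

end main

/-- **Closures of the double cosets `B n_w B` and the Bruhat order.** -/
theorem range_subset_closure_iff_le [IsAlgClosed k] (D : Red.SplitRed G)
    (hsc : Submodule.span ℤ (Set.range ⇑D.P.coroot) = ⊤)
    (b : D.P.Base) {m : ℕ} (epos : Fin m → D.idx)
    (hpos : RedSub.Enumerates (RedSub.posRoots D.P b) epos)
    (nr : D.idx → (𝟙_ (Over (Spec (CommRingCat.of k))) ⟶ G))
    (hnr : RedSub.RealisesReflections D nr) (l l' : List D.idx) :
    Set.range ⇑(dcMap D epos nr l').left.base ⊆ closure (Set.range ⇑(dcMap D epos nr l).left.base) ↔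
      BruhatOrd.Le b (RedSub.wordPerm D.P l') (RedSub.wordPerm D.P l) := by
  have h0 : IsAffineHom G.hom := D.reductive.1
  obtain ⟨c⟩ := exists_chart G (𝟙 (Spec (CommRingCat.of k)))
  obtain ⟨E, H⟩ := exists_good D c b hnr
  obtain ⟨h1, h2⟩ := source_props hpos
  have h3 : Smooth G.hom := D.reductive.2.1
  have hred : D.P.IsReduced := (hyp D b c).isReduced
  rw [PtsClosed.range_subset_closure_iff, ← H.eqv_Cell hpos, ← H.eqv_Cell hpos,
    ← subset_closure_iff]
  exact BruhatTop.main (H.wax hnr hsc) (H.topAx hnr) b H.hs H.mem_neg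
    (fun a => by rw [H.hsimple]; rfl) l l'

end K210.BruhatPts
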