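import Groth.Agent.RedSub.K210.BNPair
import Groth.Agent.RedSub.K210.BruhatOrd
import Groth.Agent.RedSub.H637.BruhatMain
import Groth.Agent.Sga3.H782.Points

/-!
# The rational points of a split reductive group: Borel subgroup and double cosets

`k` algebraically closed, `D` a splitting of the reductive `k`-group `G`, `b` a base.  The data
`BData` of the Bruhat decomposition on the rational points (through a chart), its axioms, and the
translation of `Bp` and `Cell l` to rational points of `borelMap` and of the double coset map.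
-/

set_option autoImplicit false
universe u

open CategoryTheory MonoidalCategory CartesianMonoidalCategory MonObj GrpObj AlgebraicGeometry Limits
open Polynomial LaurentPolynomial

namespace K210.BruhatPts

open Groth.Agent.Sga3B Groth.Agent.Sga3B.Cell Groth.Agent.Sga3B.Cell.Datum Groth.Agent.Sga3B.PinMod
open Groth.Agent.Sga3B.DSPts Groth.Agent.Sga3B.GaPts
open Groth.Agent.RedSub.H637 Groth.Agent.RedSub.H637.BruhatDatum Groth.Agent.RedSub.H637.BruhatMain
open Groth.Agent.RedSub.H637.BruhatAbs Groth.Agent.RedSub.H636.CellPts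
open Groth.Agent.Sga3.H782.Points K210.BNPair

variable {k : Type u} [Field k] {G : Over (Spec (CommRingCat.of k))} [GrpObj G]

section iso

variable (k) in
lemma specMap_self : Spec.map (CommRingCat.ofHom (algebraMap k k)) ≫ 𝟙 (Spec (CommRingCat.of k)) =
    𝟙 _ := by
  have : algebraMap k k = RingHom.id k := rfl
  rw [this, Category.comp_id, CommRingCat.ofHom_id, Spec.map_id]

variable (k) in
/-- the base over itself -/
noncomputable def unitIso : 𝟙_ (Over (Spec (CommRingCat.of k))) ≅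
    tB (𝟙 (Spec (CommRingCat.of k))) k :=
  eqToIso (congrArg Over.mk (specMap_self k).symm)

/-- precomposition with an isomorphism -/
noncomputable def preIso {S : Scheme.{u}} {G A B : Over S} [GrpObj G] (e : A ≅ B) :
    (B ⟶ G) ≃* (A ⟶ G) where
  toFun g := e.hom ≫ g
  invFun g := e.inv ≫ g
  left_inv g := Iso.inv_hom_id_assoc e g
  right_inv g := Iso.hom_inv_id_assoc e g
  map_mul' g h := MonObj.comp_mul e.hom g h

/-- rational points through a chart -/
noncomputable def eqv (c : Chart G (𝟙 (Spec (CommRingCat.of k)))) : Pt k c.A k ≃* Pts G :=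
  (c.pts k).trans (preIso (unitIso k))

lemma eqv_apply (c : Chart G (𝟙 (Spec (CommRingCat.of k)))) (g : Pt k c.A k) :
    eqv c g = (unitIso k).hom ≫ c.pts k g := rfl

lemma eqv_secPt (c : Chart G (𝟙 (Spec (CommRingCat.of k)))) (n : Pts G) :
    eqv c (secPt c k n) = n := by
  rw [eqv_apply, pts_secPt, ← Category.assoc]
  exact (congrArg (· ≫ n) (toUnit_unique _ (𝟙 _))).trans (Category.id_comp n)

end iso

section data

variable (D : Red.SplitRed G) (c : Chart G (𝟙 (Spec (CommRingCat.of k))))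

/-- a rational point of `𝔾_a` -/
noncomputable def gaZ (x : k) : Pts (Red.Ga (Spec (CommRingCat.of k))) :=
  (unitIso k).hom ≫ gaP (𝟙 (Spec (CommRingCat.of k))) x

/-- a rational point of the torus -/
noncomputable def tZ (t : TPt D.M k) : Pts D.T :=
  (unitIso k).hom ≫ tP D (𝟙 (Spec (CommRingCat.of k))) t

lemma exists_gaZ (z : Pts (Red.Ga (Spec (CommRingCat.of k)))) : ∃ x, z = gaZ x := by
  obtain ⟨x, hx⟩ := exists_gaP (s := 𝟙 (Spec (CommRingCat.of k))) ((unitIso k).inv ≫ z)
  exact ⟨x, by rw [gaZ, ← hx, Iso.hom_inv_id_assoc]⟩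

lemma exists_tZ (z : Pts D.T) : ∃ t, z = tZ D t := by
  obtain ⟨t, ht⟩ := exists_tP D (s := 𝟙 (Spec (CommRingCat.of k))) ((unitIso k).inv ≫ z)
  exact ⟨t, by rw [tZ, ← ht, Iso.hom_inv_id_assoc]⟩

lemma gaZ_injective : Function.Injective (gaZ (k := k)) := by
  intro x y h
  exact gaP_injective ((cancel_epi (unitIso k).hom).1 h)

lemma eqv_uu (a : D.idx) (x : k) : eqv c ((c.datum D).uu a k x) = gaZ x ≫ D.u a := by
  rw [eqv_apply, pts_uu_gaP, gaZ, Category.assoc]

lemma eqv_i (t : TPt D.M k) : eqv c ((c.datum D).i k t) = tZ D t ≫ D.i := by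
  rw [eqv_apply, pts_i_tP, tZ]
  exact (Category.assoc _ _ _).symm

lemma eqv_ofFn {n : ℕ} (e : Fin n → D.idx) (x : Fin n → k) :
    eqv c ((List.ofFn fun j => (c.datum D).uu (e j) k (x j)).prod) =
      (List.ofFn fun j => gaZ (x j) ≫ D.u (e j)).prod := by
  rw [map_list_prod, List.map_ofFn]
  congr 2
  funext j
  exact eqv_uu D c (e j) (x j)

/-- the rational points of `borelMap` -/
theorem exists_borelMap_iff {m : ℕ} (epos : Fin m → D.idx) (g : Pt k c.A k) :
    (∃ z : Pts (D.T ⊗ RedSub.pow (Red.Ga (Spec (CommRingCat.of k))) m),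
      z ≫ RedSub.borelMap D epos = eqv c g) ↔
    ∃ (t : TPt D.M k) (x : Fin m → k),
      g = (c.datum D).i k t * (List.ofFn fun j => (c.datum D).uu (epos j) k (x j)).prod := by
  constructor
  · rintro ⟨z, hz⟩
    obtain ⟨t, x, rfl⟩ := exists_borel_coords D z
    obtain ⟨t, rfl⟩ := exists_tZ D t
    choose X hX using fun j => exists_gaZ (x j)
    obtain rfl : x = fun j => gaZ (X j) := funext hX
    refine ⟨t, X, (eqv c).injective ?_⟩
    rw [← hz, borelMap_pts, map_mul, eqv_i, eqv_ofFn]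
  · rintro ⟨t, x, rfl⟩
    refine ⟨lift (tZ D t) (powPt m fun j => gaZ (x j)), ?_⟩
    rw [borelMap_pts, map_mul, eqv_i, eqv_ofFn]

end data

section bdata

variable (D : Red.SplitRed G) (c : Chart G (𝟙 (Spec (CommRingCat.of k))))
  (b : D.P.Base) {nr : D.idx → (𝟙_ (Over (Spec (CommRingCat.of k))) ⟶ G)}

/-- the data on the rational points -/
structure Good (nr : D.idx → (𝟙_ (Over (Spec (CommRingCat.of k))) ⟶ G))
    (E : BData (Pt k c.A k) D.idx) : Prop where
  hT : E.T = ((c.datum D).i k).range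
  hU : E.U = Usub (c.datum D) k
  hneg : E.neg = {a | ¬ b.IsPos a}
  hn : E.n = fun a => secPt c k (nr a)
  hs : E.s = D.P.reflectionPerm
  hsimple : E.simple = b.support

theorem exists_good [IsAlgClosed k] (hnr : RedSub.RealisesReflections D nr) :
    ∃ E : BData (Pt k c.A k) D.idx, Good D c b nr E := by
  obtain ⟨E, h1, h2, h3, h4, h5, h6⟩ := (hyp D b c).exists_bData (fun a => secPt c k (nr a))
    (fun a => actsE D hnr c a) k
  refine ⟨E, h1, h2, h3, ?_, h5, h6⟩
  rw [h4]
  funext a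
  exact bp_secPt c k (nr a)

variable {D c b} {E : BData (Pt k c.A k) D.idx} (H : Good D c b nr E)
include H

lemma Good.wl_eq (l : List D.idx) : E.wl l = BruhatDatum.wl (D := c.datum D) D.P l := by
  rw [BData.wl, H.hs]
  rfl

lemma Good.nl_eq (l : List D.idx) : E.nl l = (l.map fun a => secPt c k (nr a)).prod := by
  rw [BData.nl, H.hn]

lemma Good.eqv_nl (l : List D.idx) : eqv c (E.nl l) = (l.map nr).prod := by
  rw [H.nl_eq, map_list_prod, List.map_map]
  congr 1
  refine List.map_congr_left fun a _ => ?_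
  exact eqv_secPt c (nr a)

lemma Good.mem_neg (a : D.idx) : a ∈ E.neg ↔ ¬ b.IsPos a := by
  rw [H.hneg]
  rfl

lemma Good.opp_eq (a : D.idx) : E.opp a = D.P.reflectionPerm a a := by
  rw [← E.s_inv_self, H.hs, BruhatOrd.refl_inv]

lemma Good.ax : Ax E where
  ss a x := by rw [H.hs]; exact D.P.reflectionPerm_self a x
  oo a := by
    have h : ∀ x, D.P.root (D.P.reflectionPerm x x) = - D.P.root x := fun x => by simp
    rw [H.opp_eq, H.opp_eq]
    apply D.P.root.injective
    rw [h, h, neg_neg]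

/-- positive part of the group, with the enumeration of the positive roots -/
lemma Good.mem_Up {m : ℕ} {epos : Fin m → D.idx}
    (hpos : RedSub.Enumerates (RedSub.posRoots D.P b) epos) (g : Pt k c.A k) :
    g ∈ E.Up ↔ ∃ x : Fin m → k, g = (List.ofFn fun j => (c.datum D).uu (epos j) k (x j)).prod := by
  have hL : ∀ a, a ∈ List.ofFn epos ↔ a ∉ E.neg := by
    intro a
    rw [List.mem_ofFn, ← Set.mem_range, hpos.2, PosRoots.mem_posRoots_iff, H.mem_neg, not_not]
  constructor
  · intro hg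
    have h1 := E.Up_ord (List.ofFn epos) (List.nodup_ofFn.2 hpos.1) hL g hg
    rw [H.hU] at h1
    exact exists_ofFn_of_mem_PL (c.datum D) epos h1
  · rintro ⟨x, rfl⟩
    refine PL_subset (U := E.U) (L := List.ofFn epos) (fun a ha => E.U_le_Up a ((hL a).1 ha)) ?_
    rw [H.hU]
    exact mem_PL_ofFn (c.datum D) epos x

/-- **the Borel subgroup on rational points** -/
theorem Good.mem_Bp_iff {m : ℕ} {epos : Fin m → D.idx}
    (hpos : RedSub.Enumerates (RedSub.posRoots D.P b) epos) (g : Pt k c.A k) :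
    g ∈ Bp E ↔ ∃ z : Pts (D.T ⊗ RedSub.pow (Red.Ga (Spec (CommRingCat.of k))) m),
      z ≫ RedSub.borelMap D epos = eqv c g := by
  rw [exists_borelMap_iff, mem_Bp]
  constructor
  · rintro ⟨t, ht, u, hu, rfl⟩
    rw [H.hT] at ht
    obtain ⟨τ, rfl⟩ := ht
    obtain ⟨x, rfl⟩ := (H.mem_Up hpos u).1 hu
    exact ⟨τ, x, rfl⟩
  · rintro ⟨t, x, rfl⟩
    exact ⟨_, by rw [H.hT]; exact ⟨t, rfl⟩, _, (H.mem_Up hpos _).2 ⟨x, rfl⟩, rfl⟩

/-- **the double cosets on rational points** -/
theorem Good.mem_Cell_iff {m : ℕ} {epos : Fin m → D.idx}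
    (hpos : RedSub.Enumerates (RedSub.posRoots D.P b) epos) (l : List D.idx) (g : Pt k c.A k) :
    g ∈ Cell E l ↔ ∃ z : Pts ((D.T ⊗ RedSub.pow (Red.Ga (Spec (CommRingCat.of k))) m) ⊗
        (D.T ⊗ RedSub.pow (Red.Ga (Spec (CommRingCat.of k))) m)),
      z ≫ ((fst (D.T ⊗ RedSub.pow (Red.Ga (Spec (CommRingCat.of k))) m)
            (D.T ⊗ RedSub.pow (Red.Ga (Spec (CommRingCat.of k))) m) ≫ RedSub.borelMap D epos) *
          (toUnit ((D.T ⊗ RedSub.pow (Red.Ga (Spec (CommRingCat.of k))) m) ⊗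
            (D.T ⊗ RedSub.pow (Red.Ga (Spec (CommRingCat.of k))) m)) ≫ (l.map nr).prod) *
          (snd (D.T ⊗ RedSub.pow (Red.Ga (Spec (CommRingCat.of k))) m)
            (D.T ⊗ RedSub.pow (Red.Ga (Spec (CommRingCat.of k))) m) ≫ RedSub.borelMap D epos)) =
        eqv c g := by
  have hu : ∀ z : Pts ((D.T ⊗ RedSub.pow (Red.Ga (Spec (CommRingCat.of k))) m) ⊗
        (D.T ⊗ RedSub.pow (Red.Ga (Spec (CommRingCat.of k))) m)),
      z ≫ toUnit _ ≫ (l.map nr).prod = (l.map nr).prod := fun z => by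
    rw [← Category.assoc]
    exact (congrArg (· ≫ (l.map nr).prod) (toUnit_unique _ (𝟙 _))).trans (Category.id_comp _)
  constructor
  · rintro ⟨x, hx, y, hy, rfl⟩
    obtain ⟨z, hz⟩ := (H.mem_Bp_iff hpos x).1 hx
    obtain ⟨w, hw⟩ := (H.mem_Bp_iff hpos y).1 hy
    refine ⟨lift z w, ?_⟩
    rw [MonObj.comp_mul, MonObj.comp_mul, hu, lift_fst_assoc, lift_snd_assoc, hz, hw, map_mul,
      map_mul, H.eqv_nl]
  · rintro ⟨z, hz⟩
    rw [MonObj.comp_mul, MonObj.comp_mul, hu, ← Category.assoc, ← Category.assoc] at hz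
    obtain ⟨x, hx⟩ := (eqv c).surjective ((z ≫ fst _ _) ≫ RedSub.borelMap D epos)
    obtain ⟨y, hy⟩ := (eqv c).surjective ((z ≫ snd _ _) ≫ RedSub.borelMap D epos)
    refine ⟨x, (H.mem_Bp_iff hpos x).2 ⟨_, hx.symm⟩, y, (H.mem_Bp_iff hpos y).2 ⟨_, hy.symm⟩,
      (eqv c).injective ?_⟩
    rw [map_mul, map_mul, H.eqv_nl, hx, hy, hz]

end bdata

end K210.BruhatPts
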