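import Groth.Agent.RedSub.K210.BruhatPts

/-!
# The axioms for words on the rational points

For a simply connected root datum (coroots span): the Weyl group element of a word determines its
action on the torus; the data of the Bruhat decomposition on rational points satisfies `WAx`.
-/

set_option autoImplicit false
universe u

open CategoryTheory MonoidalCategory CartesianMonoidalCategory MonObj GrpObj AlgebraicGeometry Limits
open Polynomial LaurentPolynomial

namespace K210.BruhatPts

open Groth.Agent.Sga3B Groth.Agent.Sga3B.Cell Groth.Agent.Sga3B.Cell.Datum Groth.Agent.Sga3B.PinMod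
open Groth.Agent.Sga3B.DSPts Groth.Agent.Sga3B.GaPts
open Groth.Agent.RedSub.H637 Groth.Agent.RedSub.H637.BruhatDatum Groth.Agent.RedSub.H637.BruhatMain
open Groth.Agent.RedSub.H637.BruhatAbs Groth.Agent.RedSub.H636.CellPts
open Groth.Agent.Sga3.H782.Points K210.BNPair

section comb

variable {R A : Type u} [CommRing R] [CommRing A] [Algebra R A] [PtGrp R A] {D : Datum R A}
  (P : RootPairing D.idx ℤ D.M (Module.Dual ℤ D.M))

lemma wl_cons (a : D.idx) (l : List D.idx) :
    BruhatDatum.wl P (a :: l) = P.reflectionPerm a * BruhatDatum.wl P l := by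
  simp [BruhatDatum.wl]

/-- the action of a word on characters, paired with the coroots -/
lemma pairing_sig (l : List D.idx) (m : D.M) (x : D.idx) :
    P.toLinearMap (sig P l m) (P.coroot x) =
      P.toLinearMap m (P.coroot (BruhatDatum.wl P l x)) := by
  induction l generalizing m with
  | nil => rfl
  | cons a l ih =>
    have h1 : sig P (a :: l) m = sig P l (P.reflection a m) := rfl
    rw [h1, ih, wl_cons, Equiv.Perm.mul_apply, P.coroot_reflectionPerm, P.reflection_apply,
      P.coreflection_apply, map_sub, map_sub, map_smul, map_smul, LinearMap.sub_apply,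
      LinearMap.smul_apply, smul_eq_mul, smul_eq_mul]
    have h2 : P.coroot' a m = P.toLinearMap m (P.coroot a) := rfl
    have h3 : P.root' a (P.coroot (BruhatDatum.wl P l x)) =
      P.toLinearMap (P.root a) (P.coroot (BruhatDatum.wl P l x)) := rfl
    rw [h2, h3, _root_.mul_comm]

/-- the Weyl group acts faithfully on the roots if the coroots span -/
lemma sig_eq_of_wl_eq (hsc : Submodule.span ℤ (Set.range ⇑P.coroot) = ⊤) {l l' : List D.idx}
    (h : BruhatDatum.wl P l = BruhatDatum.wl P l') : sig P l = sig P l' := by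
  apply AddEquiv.ext
  intro m
  apply (LinearMap.IsPerfPair.bijective_left P.toLinearMap).1
  refine LinearMap.ext_on hsc ?_
  rintro _ ⟨x, rfl⟩
  rw [pairing_sig, pairing_sig, h]

variable {P} {b : P.Base}

/-- representatives of equal Weyl group elements differ by a torus element -/
theorem exists_eq_mul (H : Hyp D P b) (n : D.idx → Pt R A R)
    (hn : ∀ a, ActsE (n a) (P.reflection a).toAddEquiv)
    (hsc : Submodule.span ℤ (Set.range ⇑P.coroot) = ⊤) (K : Type u) [Field K] [IsAlgClosed K]
    [Algebra R K] {l l' : List D.idx} (h : BruhatDatum.wl P l = BruhatDatum.wl P l') :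
    ∃ t : TPt D.M K, bp K (l'.map n).prod = bp K (l.map n).prod * D.i K t := by
  have hs := sig_eq_of_wl_eq P hsc h
  have a1 : ActsE (l.map n).prod (sig P l) := actsE_list hn l
  have a2 : ActsE (l'.map n).prod (sig P l') := actsE_list hn l'
  obtain ⟨t, ht⟩ := H.exists_eq_i (K := K) ((bp K (l.map n).prod)⁻¹ * bp K (l'.map n).prod)
    (fun t => by
      have e1 := ActsE.conj a1 t
      have e2 := ActsE.conj a2 t
      rw [← hs] at e2
      have hinv : Pt.map (lC R K) ((bp K (l.map n).prod)⁻¹) =
          (Pt.map (lC R K) (bp K (l.map n).prod))⁻¹ := Pt.map_inv _ _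
      rw [Pt.map_mul, hinv, map_bp, map_bp]
      generalize bp K[T;T⁻¹] ((l.map n).prod) = N at e1 ⊢
      generalize bp K[T;T⁻¹] ((l'.map n).prod) = N' at e2 ⊢
      have e3 : D.i K[T;T⁻¹] t = N⁻¹ * (N * D.i K[T;T⁻¹] t * N⁻¹) * N := by group
      have e4 : N⁻¹ * N' * D.i K[T;T⁻¹] t * (N⁻¹ * N')⁻¹ =
          N⁻¹ * (N' * D.i K[T;T⁻¹] t * N'⁻¹) * N := by group
      rw [e4, e2, ← e1]
      exact e3.symm)
  refine ⟨t, ?_⟩
  rw [← ht]
  group

/-- a representative in the Borel subgroup is a representative of `1` -/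
theorem wl_one (H : Hyp D P b) (n : D.idx → Pt R A R)
    (hn : ∀ a, ActsE (n a) (P.reflection a).toAddEquiv) {K : Type u} [Field K] [Algebra R K]
    {l Lp : List D.idx} (hLp : ∀ a ∈ Lp, b.IsPos a) {u : Pt R A K} (hu : u ∈ PL (Usub D K) Lp)
    (τ : TPt D.M K) (h : bp K (l.map n).prod = D.i K τ * u) : BruhatDatum.wl P l = 1 := by
  refine H.bruhat_unique n hn (l := l) (l' := []) (Lm := []) (Lm' := []) (Lp := []) (Lp' := Lp)
    (fun a h => absurd h (by simp)) (fun a h => absurd h (by simp))
    (fun a h => absurd h (by simp)) hLp (u := 1) (u' := 1) (v := 1) (v' := u) rfl rfl rfl hu 1 τ ?_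
  rw [h, List.map_nil, List.prod_nil, bp_one, map_one]
  simp

/-- the rank one relation for the root opposite to a simple one -/
theorem rank1_opp (H : Hyp D P b) {n : Pt R A R} {x y : D.idx} (hyx : P.reflectionPerm y y = x)
    (hy : y ∈ b.support) (hn : ActsE n (P.reflection y).toAddEquiv) {K : Type u} [Field K]
    [Algebra R K] {z : K} (hz : z ≠ 0) : ∃ (v v' : K) (t : TPt D.M K),
      D.uu y K z = D.uu x K v * bp K n * D.i K t * D.uu x K v' := by
  subst hyx
  exact H.rank1 hy hn hz

end comb

section main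

variable {k : Type u} [Field k] {G : Over (Spec (CommRingCat.of k))} [GrpObj G]
  {D : Red.SplitRed G} {c : Chart G (𝟙 (Spec (CommRingCat.of k)))}
  {b : D.P.Base} {nr : D.idx → (𝟙_ (Over (Spec (CommRingCat.of k))) ⟶ G)}
  {E : BData (Pt k c.A k) D.idx} (H : Good D c b nr E)
include H

lemma Good.nl_eq_bp (l : List D.idx) :
    E.nl l = bp k ((l.map fun a => secPt c k (nr a)).prod) := by
  rw [H.nl_eq, bp_list_prod, List.map_map]
  congr 1

variable [IsAlgClosed k] (hnr : RedSub.RealisesReflections D nr)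
include hnr

/-- representatives of equal Weyl group elements differ by a torus element -/
theorem Good.exists_eq_mul (hsc : Submodule.span ℤ (Set.range ⇑D.P.coroot) = ⊤) (l l' : List D.idx)
    (h : E.wl l = E.wl l') : ∃ t ∈ E.T, E.nl l' = E.nl l * t := by
  rw [H.wl_eq, H.wl_eq] at h
  obtain ⟨t, ht⟩ := BruhatPts.exists_eq_mul (hyp D b c) (fun a => secPt c k (nr a))
    (fun a => actsE D hnr c a) hsc k h
  refine ⟨(c.datum D).i k t, ?_, ?_⟩
  · rw [H.hT]
    exact ⟨t, rfl⟩
  · rw [H.nl_eq_bp, H.nl_eq_bp]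
    exact ht

omit [IsAlgClosed k] in
theorem Good.wl_one {l : List D.idx} (h : E.nl l ∈ Bp E) : E.wl l = 1 := by
  obtain ⟨m, epos, hpos⟩ := PosRoots.exists_enumerates (RedSub.posRoots D.P b)
  obtain ⟨t, ht, u, hu, htu⟩ := h
  rw [H.hT] at ht
  obtain ⟨τ, rfl⟩ := ht
  obtain ⟨x, rfl⟩ := (H.mem_Up hpos u).1 hu
  rw [H.nl_eq_bp] at htu
  rw [H.wl_eq]
  refine BruhatPts.wl_one (hyp D b c) (fun a => secPt c k (nr a)) (fun a => actsE D hnr c a)
    (Lp := List.ofFn epos) (fun a ha => ?_) (mem_PL_ofFn (c.datum D) epos x) τ htu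
  have ha' : a ∈ Set.range epos := (List.mem_ofFn).1 ha
  rw [hpos.2] at ha'
  exact (PosRoots.mem_posRoots_iff b a).1 ha'

theorem Good.wax (hsc : Submodule.span ℤ (Set.range ⇑D.P.coroot) = ⊤) : WAx E where
  wl_one _ h := H.wl_one hnr h
  nl_eq l l' h := H.exists_eq_mul hnr hsc l l' h
  simple_word l := by
    have hred : D.P.IsReduced := (hyp D b c).isReduced
    obtain ⟨l', h1, h2⟩ := BruhatOrd.exists_simple_word (P := D.P) b l
    refine ⟨l', fun a ha => ?_, ?_⟩
    · rw [H.hsimple]
      exact h1 a ha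
    · rw [H.wl_eq, H.wl_eq]
      exact h2

end main

end K210.BruhatPts
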